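import Groth.Agent.DTen.K785.Assoc
import Groth.Agent.LoccohB.ProjF
import Groth.Prelude.Def_DTen4
import Groth.Prelude.Def_TrivBC

/-!
# The action of `S` on the restriction of a complex of `S`-modules, on complexes

For `f : R → S` and a complex `P` of `S`-modules:
* `act f P : P|_R ⊗ S|_R ⟶ P|_R`, natural in `P`, with `act_tmk : x ⊗ s ↦ s x`;
* `unit_act` : `(N ⟶ (N_S)|_R) ▷ S ≫ act` is an isomorphism `N ⊗ S|_R ≅ (N_S)|_R`;
* `act_comm` : for a commutative square of rings the two actions on a complex of modules over the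
  fourth corner commute.
-/

set_option autoImplicit false

universe u

open CategoryTheory CategoryTheory.Limits MonoidalCategory CochainComplex CochainComplex.HomComplex

attribute [local instance] HasDerivedCategory.standard

namespace K367.ActCx

open DTen Groth.Agent.LoccohB Groth.Agent.LoccohB.TenCx K785.Assoc

section One

variable {R S : Type u} [CommRing R] [CommRing S] (f : R →+* S)

/-- `S` as a complex of `R`-modules. -/
noncomputable abbrev S0 : DRing.Cx R := (resCx f).obj (𝟙_ (DRing.Cx S))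

lemma tmk_add_left (Y Y' : DRing.Cx S) (p q n : ℤ) (h : p + q = n) (x x' : Y.X p) (y : Y'.X q) :
    tmk Y Y' p q n h (x + x') y = tmk Y Y' p q n h x y + tmk Y Y' p q n h x' y := by
  rw [map_add, LinearMap.add_apply]

lemma tmk_smul_left (Y Y' : DRing.Cx S) (p q n : ℤ) (h : p + q = n) (a : S) (x : Y.X p)
    (y : Y'.X q) : tmk Y Y' p q n h (a • x) y = a • tmk Y Y' p q n h x y := by
  rw [map_smul, LinearMap.smul_apply]

lemma tmk_smul_right (Y Y' : DRing.Cx S) (p q n : ℤ) (h : p + q = n) (a : S) (x : Y.X p)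
    (y : Y'.X q) : tmk Y Y' p q n h x (a • y) = a • tmk Y Y' p q n h x y := by
  rw [map_smul]

/-- the bilinear map `Y|_R × Y'|_R → (Y ⊗ Y')|_R`. -/
noncomputable def laxBil (Y Y' : DRing.Cx S) (p q n : ℤ) (h : p + q = n) :
    ((resCx f).obj Y).X p →ₗ[R] ((resCx f).obj Y').X q →ₗ[R]
      ((resCx f).obj (Y ⊗ Y' : DRing.Cx S)).X n :=
  LinearMap.mk₂ R (fun (x : Y.X p) (y : Y'.X q) => tmk Y Y' p q n h x y)
    (fun x x' y => tmk_add_left Y Y' p q n h x x' y)
    (fun a x y => tmk_smul_left Y Y' p q n h (f a) x y)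
    (fun x y y' => map_add (tmk Y Y' p q n h x) y y')
    (fun a x y => tmk_smul_right Y Y' p q n h (f a) x y)

lemma laxBil_d (Y Y' : DRing.Cx S) (p q n : ℤ) (h : p + q = n) (x : Y.X p)
    (y : ((resCx f).obj Y').X q) :
    (((resCx f).obj (Y ⊗ Y' : DRing.Cx S)).d n (n + 1)).hom
      (laxBil f Y Y' p q n h x y) =
      laxBil f Y Y' (p + 1) q (n + 1) (by omega) ((Y.d p (p + 1)).hom x) y +
      p.negOnePow • laxBil f Y Y' p (q + 1) (n + 1) (by omega) x
        ((((resCx f).obj Y').d q (q + 1)).hom y) :=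
  d_tmk Y Y' p q n h x y

/-- `Y|_R ⊗ Y'|_R ⟶ (Y ⊗ Y')|_R`. -/
noncomputable def lax (Y Y' : DRing.Cx S) :
    ((resCx f).obj Y ⊗ (resCx f).obj Y' : DRing.Cx R) ⟶ (resCx f).obj (Y ⊗ Y' : DRing.Cx S) :=
  homMk (laxBil f Y Y') (laxBil_d f Y Y')

lemma lax_tmk (Y Y' : DRing.Cx S) (p q n : ℤ) (h : p + q = n)
    (x : ((resCx f).obj Y).X p) (y : ((resCx f).obj Y').X q) :
    ((lax f Y Y').f n).hom (tmk ((resCx f).obj Y) ((resCx f).obj Y') p q n h x y) =
      laxBil f Y Y' p q n h x y :=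
  homMk_tmk _ _ p q n h x y

lemma lax_nat_left {Y Z : DRing.Cx S} (g : Y ⟶ Z) (Y' : DRing.Cx S) :
    ((resCx f).map g ▷ (resCx f).obj Y') ≫ lax f Z Y' = lax f Y Y' ≫ (resCx f).map (g ▷ Y') := by
  refine cx_hom_ext fun p q n h x y => ?_
  refine (congrArg ((lax f Z Y').f n).hom (whiskerRight_tmk ((resCx f).map g)
    ((resCx f).obj Y') p q n h x y)).trans ?_
  refine (lax_tmk f Z Y' p q n h _ y).trans ?_
  refine Eq.trans ?_ (congrArg (((resCx f).map (g ▷ Y')).f n).hom
    (lax_tmk f Y Y' p q n h x y)).symm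
  exact (whiskerRight_tmk g Y' p q n h x y).symm

lemma unit_lax (N : DRing.Cx R) (X : DRing.Cx S) :
    ((unitCx f).app N ▷ (resCx f).obj X) ≫ lax f ((extCx f).obj N) X =
      ProjF.projMap f N X := by
  refine cx_hom_ext fun p q n h x y => ?_
  refine (congrArg ((lax f ((extCx f).obj N) X).f n).hom (whiskerRight_tmk ((unitCx f).app N)
    ((resCx f).obj X) p q n h x y)).trans ?_
  refine (lax_tmk f _ X p q n h _ y).trans ?_
  exact (ProjF.projMap_tmk f N X p q n h x y).symm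

/-- The action `P|_R ⊗ S|_R ⟶ P|_R`. -/
noncomputable def act (P : DRing.Cx S) :
    ((resCx f).obj P ⊗ S0 f : DRing.Cx R) ⟶ (resCx f).obj P :=
  lax f P (𝟙_ (DRing.Cx S)) ≫ (resCx f).map (ρ_ P).hom

@[reassoc]
lemma act_nat {P P' : DRing.Cx S} (g : P ⟶ P') :
    ((resCx f).map g ▷ S0 f) ≫ act f P' = act f P ≫ (resCx f).map g := by
  rw [act, act, ← Category.assoc, lax_nat_left, Category.assoc, Category.assoc, ← Functor.map_comp,
    ← Functor.map_comp, MonoidalCategory.rightUnitor_naturality]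

lemma unit_act (N : DRing.Cx R) :
    ((unitCx f).app N ▷ S0 f) ≫ act f ((extCx f).obj N) =
      ProjF.projMap f N (𝟙_ (DRing.Cx S)) ≫ (resCx f).map (ρ_ ((extCx f).obj N)).hom := by
  rw [act, ← Category.assoc, unit_lax]

instance isIso_unit_act (N : DRing.Cx R) :
    IsIso (((unitCx f).app N ▷ S0 f) ≫ act f ((extCx f).obj N)) := by
  rw [unit_act]
  infer_instance

/-- an element of `S` as an element of the unit complex. -/
noncomputable def el (s : S) : (𝟙_ (DRing.Cx S) : DRing.Cx S).X 0 :=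
  (HomologicalComplex.singleObjXSelf (ComplexShape.up ℤ) 0 (𝟙_ (ModuleCat.{u} S))).inv.hom s

lemma el_surjective (x : (𝟙_ (DRing.Cx S) : DRing.Cx S).X 0) : ∃ s : S, el s = x :=
  ⟨(HomologicalComplex.singleObjXSelf (ComplexShape.up ℤ) 0 (𝟙_ (ModuleCat.{u} S))).hom.hom x,
    congr($((HomologicalComplex.singleObjXSelf (ComplexShape.up ℤ) 0
      (𝟙_ (ModuleCat.{u} S))).hom_inv_id).hom x)⟩

lemma unit_eq_zero (q : ℤ) (hq : q ≠ 0) (x : (𝟙_ (DRing.Cx S) : DRing.Cx S).X q) : x = 0 := by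
  have h : IsZero ((𝟙_ (DRing.Cx S) : DRing.Cx S).X q) :=
    HomologicalComplex.isZero_single_obj_X (ComplexShape.up ℤ) 0 (𝟙_ (ModuleCat.{u} S)) q hq
  have := ModuleCat.subsingleton_of_isZero h
  exact Subsingleton.elim _ _

lemma rho_tmk (P : DRing.Cx S) (n : ℤ) (x : P.X n) (s : S) :
    ((ρ_ P).hom.f n).hom (tmk P (𝟙_ (DRing.Cx S)) n 0 n (add_zero n) x (el s)) = s • x := by
  have e : (ρ_ P).inv.f n ≫ (ρ_ P).hom.f n = 𝟙 _ := by
    rw [← HomologicalComplex.comp_f, Iso.inv_hom_id, HomologicalComplex.id_f]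
  have e1 : (ρ_ P).inv.f n = (ρ_ (P.X n)).inv ≫
      (P.X n ◁ (HomologicalComplex.singleObjXSelf (ComplexShape.up ℤ) 0
        (𝟙_ (ModuleCat.{u} S))).inv) ≫ tι P (𝟙_ (DRing.Cx S)) n 0 n (add_zero n) :=
    HomologicalComplex.rightUnitor'_inv P n
  rw [e1, Category.assoc, Category.assoc, Iso.inv_comp_eq, Category.comp_id] at e
  exact congr($(e).hom (TensorProduct.tmul S x s))

lemma act_tmk (P : DRing.Cx S) (n : ℤ) (x : P.X n) (s : S) :
    ((act f P).f n).hom (tmk ((resCx f).obj P) (S0 f) n 0 n (add_zero n) x (el (S := S) s)) =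
      (show P.X n from s • x) :=
  (congrArg (((resCx f).map (ρ_ P).hom).f n).hom
    (lax_tmk f P (𝟙_ (DRing.Cx S)) n 0 n (add_zero n) x (el (S := S) s))).trans (rho_tmk P n x s)

lemma act_tmk' (P : DRing.Cx S) (p q n : ℤ) (h : p + q = n) (hq : q ≠ 0) (x : P.X p)
    (y : (S0 f).X q) :
    ((act f P).f n).hom (tmk ((resCx f).obj P) (S0 f) p q n h x y) = 0 := by
  have hy : y = 0 := unit_eq_zero (S := S) q hq y
  rw [hy, map_zero, map_zero]

end One

section Square

variable {R A R' A' : Type u} [CommRing R] [CommRing A] [CommRing R'] [CommRing A']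
  {φ : R →+* A} {ρ : R →+* R'} {α : A →+* A'} {φ' : R' →+* A'}

/-- The two restrictions of a complex. -/
noncomputable def cIso (h : α.comp φ = φ'.comp ρ) (T : DRing.Cx A') :
    (resCx φ).obj ((resCx α).obj T) ≅ (resCx ρ).obj ((resCx φ').obj T) :=
  (Functor.mapHomologicalComplexCompIso (TrivBC.resCommMod h) (ComplexShape.up ℤ) ≪≫
        (Functor.mapHomologicalComplexCompIso
          (Iso.refl (ModuleCat.restrictScalars.{u} φ' ⋙ ModuleCat.restrictScalars.{u} ρ))
          (ComplexShape.up ℤ)).symm).app T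

lemma cIso_hom_apply (h : α.comp φ = φ'.comp ρ) (T : DRing.Cx A') (n : ℤ) (x : T.X n) :
    (((cIso h T).hom).f n).hom x = x := rfl

lemma cIso_inv_apply (h : α.comp φ = φ'.comp ρ) (T : DRing.Cx A') (n : ℤ) (x : T.X n) :
    (((cIso h T).inv).f n).hom x = x := rfl

/-- The left action `R'|_R ⊗ T|_R ⟶ T|_R`. -/
noncomputable def beta (h : α.comp φ = φ'.comp ρ) (T : DRing.Cx A') :
    (S0 ρ ⊗ (resCx φ).obj ((resCx α).obj T) : DRing.Cx R) ⟶ (resCx φ).obj ((resCx α).obj T) :=
  (S0 ρ ◁ (cIso h T).hom) ≫ (braidCx (S0 ρ) ((resCx ρ).obj ((resCx φ').obj T))).hom ≫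
    act ρ ((resCx φ').obj T) ≫ (cIso h T).inv

lemma beta_tmk (h : α.comp φ = φ'.comp ρ) (T : DRing.Cx A') (n : ℤ) (r : R') (x : T.X n) :
    ((beta h T).f n).hom (tmk (S0 ρ) ((resCx φ).obj ((resCx α).obj T)) 0 n n (zero_add n)
      (el (S := R') r) x) = (show T.X n from φ' r • x) := by
  refine (congrArg (fun t => (((cIso h T).inv).f n).hom (((act ρ ((resCx φ').obj T)).f n).hom
    (((braidCx (S0 ρ) ((resCx ρ).obj ((resCx φ').obj T))).hom.f n).hom t)))
    (whiskerLeft_tmk (S0 ρ) (cIso h T).hom 0 n n (zero_add n) (el (S := R') r) x)).trans ?_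
  refine (congrArg (fun t => (((cIso h T).inv).f n).hom (((act ρ ((resCx φ').obj T)).f n).hom
    t)) (braid_tmk (S0 ρ) ((resCx ρ).obj ((resCx φ').obj T)) 0 n n (zero_add n)
      (el (S := R') r) _)).trans ?_
  rw [zero_mul, Int.negOnePow_zero, one_smul]
  exact act_tmk ρ ((resCx φ').obj T) n x r

lemma beta_tmk' (h : α.comp φ = φ'.comp ρ) (T : DRing.Cx A') (p q n : ℤ) (hn : p + q = n)
    (hp : p ≠ 0) (y : (S0 ρ).X p) (x : T.X q) :
    ((beta h T).f n).hom (tmk (S0 ρ) ((resCx φ).obj ((resCx α).obj T)) p q n hn y x) = 0 := by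
  have hy : y = 0 := unit_eq_zero (S := R') p hp y
  rw [hy, map_zero, LinearMap.zero_apply, map_zero]

/-- The actions of `R'` and of `A` commute. -/
lemma act_comm (h : α.comp φ = φ'.comp ρ) (T : DRing.Cx A') :
    (beta h T ▷ S0 φ) ≫ act φ ((resCx α).obj T) =
      (α_ (S0 ρ) ((resCx φ).obj ((resCx α).obj T)) (S0 φ)).hom ≫
        (S0 ρ ◁ act φ ((resCx α).obj T)) ≫ beta h T := by
  refine cx_hom_ext₃ fun p q r pq n h₁ h₂ x y z => ?_
  obtain ⟨qr, h₃⟩ : ∃ qr, q + r = qr := ⟨_, rfl⟩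
  let T0 : DRing.Cx R := (resCx φ).obj ((resCx α).obj T)
  let a := act φ ((resCx α).obj T)
  let b := beta h T
  refine (congrArg (fun t => (a.f n).hom t) (whiskerRight_tmk b (S0 φ) pq r n h₂ _ z)).trans ?_
  refine Eq.trans ?_ (congrArg (fun t => (b.f n).hom (((S0 ρ ◁ a).f n).hom t))
    (assoc_tmk (S0 ρ) T0 (S0 φ) p q r pq qr n h₁ h₂ h₃ (by omega) x y z)).symm
  refine Eq.trans ?_ (congrArg (fun t => (b.f n).hom t)
    (whiskerLeft_tmk (S0 ρ) a p qr n (by omega) x _)).symm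
  by_cases hp : p = 0
  · by_cases hr : r = 0
    · subst hp
      subst hr
      obtain rfl : q = pq := by omega
      obtain rfl : q = n := by omega
      obtain rfl : q = qr := by omega
      obtain ⟨r', rfl⟩ := el_surjective (S := R') x
      obtain ⟨s, rfl⟩ := el_surjective (S := A) z
      have e1 := beta_tmk h T q r' y
      have e2 := act_tmk φ ((resCx α).obj T) q y s
      refine (congrArg (fun t => (a.f q).hom (tmk T0 (S0 φ) q 0 q (add_zero q) t
        (el (S := A) s))) e1).trans ?_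
      refine (act_tmk φ ((resCx α).obj T) q _ s).trans ?_
      refine Eq.trans ?_ (congrArg (fun t => (b.f q).hom (tmk (S0 ρ) T0 0 q q (zero_add q)
        (el (S := R') r') t)) e2).symm
      refine Eq.trans ?_ (beta_tmk h T q r' _).symm
      exact smul_comm (M := A') (N := A') (α := T.X q) (α s) (φ' r') y
    · have hz : z = 0 := unit_eq_zero (S := A) r hr z
      rw [hz, map_zero, map_zero, map_zero, map_zero, map_zero, map_zero]
  · have hx : x = 0 := unit_eq_zero (S := R') p hp x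
    rw [hx]
    simp only [map_zero, LinearMap.zero_apply]

end Square

end K367.ActCx
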