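import Groth.Agent.Dual2.K367.ActCx
import Groth.Agent.DTen.K785.EvTen
import Groth.Agent.DTen.K785.Struct
import Groth.Agent.DTen.K786.Base
import Groth.Agent.LoccohB.Univ

/-!
# The action of `S` on the restriction of an object of `D(S)`, in `D(R)`

* `ac f Z : Z|_R ⊗^L S ⟶ Z|_R`, natural in `Z` (`ac_nat`);
* `isIso_free`: for `adj : L ⊣ restriction` and `N` in `D(R)` the composite
  `N ⊗^L S ⟶ (L N)|_R ⊗^L S ⟶ (L N)|_R` is an isomorphism;
* `isUniv_iff`: an arrow `w : Z|_R ⟶ M` is universal for restriction iff `ac ≫ w` is universal for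
  `- ⊗^L S`.
-/

set_option autoImplicit false

universe u

open CategoryTheory CategoryTheory.Limits MonoidalCategory

attribute [local instance] HasDerivedCategory.standard

namespace K367.ActD

open DTen Groth.Agent.LoccohB K785.EvTen K785.Basic K367.ActCx DerivedCategory

section One

variable {R S : Type u} [CommRing R] [CommRing S] (f : R →+* S) [HasLTen R]

/-- `S` in `D(R)`. -/
noncomputable abbrev S0D : Dual.D R := Q.obj (S0 f)

/-- The action on images of complexes. -/
noncomputable def actQ : Q ⋙ (DRing.restrictD f ⋙ tensorRightD R (S0D f)) ⟶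
    Q ⋙ DRing.restrictD f where
  app P := tm ((resFactors f).hom.app P) (𝟙 (S0D f)) ≫ (ε R).app ((resCx f).obj P, S0 f) ≫
    Q.map (act f P) ≫ (resFactors f).inv.app P
  naturality P P' g := by
    have e1 := (resFactors f).hom.naturality g
    have e2 := (resFactors f).inv.naturality g
    dsimp at e1 e2
    change tm ((DRing.restrictD f).map (Q.map g)) (𝟙 (S0D f)) ≫ tm ((resFactors f).hom.app P')
      (𝟙 (S0D f)) ≫ (ε R).app ((resCx f).obj P', S0 f) ≫ Q.map (act f P') ≫
        (resFactors f).inv.app P' = (tm ((resFactors f).hom.app P) (𝟙 (S0D f)) ≫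
        (ε R).app ((resCx f).obj P, S0 f) ≫ Q.map (act f P) ≫ (resFactors f).inv.app P) ≫
          (DRing.restrictD f).map (Q.map g)
    rw [tm_comp_assoc, e1, Category.assoc, Category.assoc, Category.assoc, ← e2,
      ← Functor.map_comp_assoc, ← act_nat, Functor.map_comp_assoc, ← tm_comp_assoc]
    congr 1
    have e3 := ε_nat_left ((resCx f).map g) (S0 f)
    exact (reassoc_of% e3) _

/-- The action on `D`. -/
noncomputable def actD : DRing.restrictD f ⋙ tensorRightD R (S0D f) ⟶ DRing.restrictD f :=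
  LBC.natTransOfQ (actQ f)

/-- The action `Z|_R ⊗^L S ⟶ Z|_R`. -/
noncomputable def ac (Z : Dual.D S) :
    (LTen₂ R).obj ((DRing.restrictD f).obj Z, S0D f) ⟶ (DRing.restrictD f).obj Z :=
  (actD f).app Z

@[reassoc]
lemma ac_nat {Z Z' : Dual.D S} (g : Z ⟶ Z') :
    tm ((DRing.restrictD f).map g) (𝟙 (S0D f)) ≫ ac f Z' = ac f Z ≫ (DRing.restrictD f).map g :=
  (actD f).naturality g

lemma ac_Q (P : DRing.Cx S) : ac f (Q.obj P) =
    tm ((resFactors f).hom.app P) (𝟙 (S0D f)) ≫ (ε R).app ((resCx f).obj P, S0 f) ≫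
      Q.map (act f P) ≫ (resFactors f).inv.app P :=
  LBC.natTransOfQ_app (actQ f) P

section Free

variable {L : Dual.D R ⥤ Dual.D S} (adj : L ⊣ DRing.restrictD f)

/-- The free object: `N ⊗^L S ⟶ (L N)|_R`, natural in `N`. -/
noncomputable def free : tensorRightD R (S0D f) ⟶ L ⋙ DRing.restrictD f where
  app N := tm (adj.unit.app N) (𝟙 (S0D f)) ≫ ac f (L.obj N)
  naturality N N' g := by
    have e1 := adj.unit.naturality g
    dsimp at e1
    change tm g (𝟙 (S0D f)) ≫ tm (adj.unit.app N') (𝟙 (S0D f)) ≫ ac f (L.obj N') =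
      (tm (adj.unit.app N) (𝟙 (S0D f)) ≫ ac f (L.obj N)) ≫ (DRing.restrictD f).map (L.map g)
    rw [tm_comp_assoc, e1, Category.assoc, ← ac_nat, tm_comp_assoc]

lemma free_app (N : Dual.D R) :
    (free f adj).app N = tm (adj.unit.app N) (𝟙 (S0D f)) ≫ ac f (L.obj N) := rfl

omit [HasLTen R] in
/-- Derived base change of a K-projective complex, for any left adjoint. -/
lemma exists_base (P : DRing.Cx R) [P.IsKProjective] :
    ∃ c : L.obj (Q.obj P) ≅ Q.obj ((extCx f).obj P),
      adj.unit.app (Q.obj P) ≫ (DRing.restrictD f).map c.hom =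
        Q.map ((unitCx f).app P) ≫ (resFactors f).inv.app ((extCx f).obj P) := by
  have : HasLBase f := ⟨adj.isRightAdjoint⟩
  have h := baseCmp_fac f P
  refine ⟨(adj.leftAdjointUniq (baseAdj f)).app (Q.obj P) ≪≫ asIso ((baseCmp f).app P), ?_⟩
  refine Eq.trans ?_ h
  rw [Iso.trans_hom, Functor.map_comp, ← Category.assoc]
  congr 1
  exact Adjunction.unit_leftAdjointUniq_hom_app adj (baseAdj f) (Q.obj P)

instance isIso_free_app (N : Dual.D R) : IsIso ((free f adj).app N) := by
  refine K785.Struct.isIso_app_of_kproj (free f adj) (fun P _ => ?_) N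
  obtain ⟨c, hc⟩ := exists_base f adj P
  have e : (free f adj).app (Q.obj P) ≫ (DRing.restrictD f).map c.hom =
      (ε R).app (P, S0 f) ≫ Q.map (((unitCx f).app P ▷ S0 f) ≫ act f ((extCx f).obj P)) ≫
        (resFactors f).inv.app ((extCx f).obj P) := by
    rw [free_app, Category.assoc, ← ac_nat, tm_comp_assoc, hc, ac_Q, tm_comp_assoc]
    have e1 : (Q.map ((unitCx f).app P) ≫ (resFactors f).inv.app ((extCx f).obj P)) ≫
        (resFactors f).hom.app ((extCx f).obj P) = Q.map ((unitCx f).app P) := by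
      rw [Category.assoc, Iso.inv_hom_id_app]
      exact Category.comp_id _
    rw [e1, Category.comp_id, Functor.map_comp]
    have e2 := ε_nat_left ((unitCx f).app P) (S0 f)
    rw [Category.comp_id]
    refine ((reassoc_of% e2) _).trans ?_
    rw [Category.assoc]
  have h2 : IsIso ((free f adj).app (Q.obj P) ≫ (DRing.restrictD f).map c.hom) := by
    rw [e]
    infer_instance
  exact IsIso.of_isIso_comp_right _ ((DRing.restrictD f).map c.hom)

end Free

/-- `v : V ⊗^L L ⟶ M` is universal. -/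
def IsUnivT {V L M : Dual.D R} (v : (LTen₂ R).obj (V, L) ⟶ M) : Prop :=
  ∀ N : Dual.D R, Function.Bijective (fun g : N ⟶ V => tm g (𝟙 L) ≫ v)

omit [HasLTen R] in
lemma bijective_of_iso_left {N N' Z : Dual.D S} {M : Dual.D R} (i : N ≅ N')
    (w : (DRing.restrictD f).obj Z ⟶ M)
    (h : Function.Bijective (fun g : N ⟶ Z => (DRing.restrictD f).map g ≫ w)) :
    Function.Bijective (fun g : N' ⟶ Z => (DRing.restrictD f).map g ≫ w) := by
  have h1 : (fun g : N ⟶ Z => (DRing.restrictD f).map g ≫ w) ∘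
      (i.homFromEquiv (Z := Z)).symm =
      (((DRing.restrictD f).mapIso i).homFromEquiv (Z := M)).symm ∘
        (fun g : N' ⟶ Z => (DRing.restrictD f).map g ≫ w) := by
    funext g
    change (DRing.restrictD f).map (i.hom ≫ g) ≫ w =
      (DRing.restrictD f).map i.hom ≫ (DRing.restrictD f).map g ≫ w
    rw [Functor.map_comp, Category.assoc]
  have h2 := h.comp (i.homFromEquiv (Z := Z)).symm.bijective
  rw [h1] at h2
  exact (Function.Bijective.of_comp_iff' (Equiv.bijective _) _).1 h2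

section

variable {L : Dual.D R ⥤ Dual.D S} (adj : L ⊣ DRing.restrictD f)

lemma free_comp {Z : Dual.D S} {M N : Dual.D R} (w : (DRing.restrictD f).obj Z ⟶ M)
    (g : N ⟶ (DRing.restrictD f).obj Z) :
    (free f adj).app N ≫ (DRing.restrictD f).map ((adj.homEquiv N Z).symm g) ≫ w =
      tm g (𝟙 (S0D f)) ≫ ac f Z ≫ w := by
  rw [free_app, Category.assoc, ← ac_nat_assoc, tm_comp_assoc, Category.comp_id]
  congr 2
  have h := (adj.homEquiv N Z).apply_symm_apply g
  rw [Adjunction.homEquiv_unit] at h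
  exact h

include adj in
lemma bijective_iff {Z : Dual.D S} {M : Dual.D R} (w : (DRing.restrictD f).obj Z ⟶ M)
    (N : Dual.D R) : Function.Bijective (fun g : N ⟶ (DRing.restrictD f).obj Z =>
      tm g (𝟙 (S0D f)) ≫ ac f Z ≫ w) ↔
    Function.Bijective (fun g : L.obj N ⟶ Z => (DRing.restrictD f).map g ≫ w) := by
  have h1 : (fun g : N ⟶ (DRing.restrictD f).obj Z => tm g (𝟙 (S0D f)) ≫ ac f Z ≫ w) =
      ((asIso ((free f adj).app N)).homFromEquiv (Z := M)).symm ∘
        (fun g : L.obj N ⟶ Z => (DRing.restrictD f).map g ≫ w) ∘ (adj.homEquiv N Z).symm := by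
    funext g
    exact (free_comp f adj w g).symm
  rw [h1]
  rw [Function.Bijective.of_comp_iff' (Equiv.bijective _), Function.Bijective.of_comp_iff _
    (Equiv.bijective _)]

end

/-- Universality for restriction and for `- ⊗^L S`. -/
theorem isUniv_iff {Z : Dual.D S} {M : Dual.D R} (w : (DRing.restrictD f).obj Z ⟶ M) :
    Univ.IsUniv f w ↔ IsUnivT (ac f Z ≫ w) := by
  have := LBC.hasLBaseChange f
  constructor
  · intro h N
    exact (bijective_iff f (LBC.lbcAdj f) w N).2 (h _)
  · intro h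
    refine Univ.IsUniv.of_sg fun n => ?_
    have h1 := (bijective_iff f (LBC.lbcAdj f) w (DBase.sg R n R)).1 (h _)
    exact bijective_of_iso_left f (LBC.lbcSelfIso f n) w h1

section RHom

variable [HasRHom R]

lemma isUnivT_iff {V L M : Dual.D R} (v : (LTen₂ R).obj (V, L) ⟶ M) :
    IsUnivT v ↔ IsIso (rhomHomEquiv V L M v) := by
  have h1 : ∀ N : Dual.D R, (fun g : N ⟶ V => tm g (𝟙 L) ≫ v) =
      (rhomHomEquiv N L M).symm ∘ (fun g : N ⟶ V => g ≫ rhomHomEquiv V L M v) := by
    intro N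
    funext g
    dsimp only [Function.comp_apply]
    rw [K785.Curry.rhomHomEquiv_symm_comp, Equiv.symm_apply_apply]
  constructor
  · intro h
    refine K785.Curry.isIso_of_bijective _ fun N => ?_
    have h2 := h N
    rw [h1 N] at h2
    exact (Function.Bijective.of_comp_iff' (Equiv.bijective _) _).1 h2
  · intro h N
    rw [h1 N]
    exact (Equiv.bijective _).comp ((asIso (rhomHomEquiv V L M v)).homToEquiv (Z := N)).bijective

lemma isUnivT_ev (L M : Dual.D R) : IsUnivT (DTen.ev L M) := by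
  rw [isUnivT_iff]
  have h : rhomHomEquiv ((RHomR R L).obj M) L M (DTen.ev L M) = 𝟙 _ := by
    apply (rhomHomEquiv _ _ _).symm.injective
    rw [Equiv.symm_apply_apply, K785.Curry.rhomHomEquiv_symm_eq]
    have : Prod.mkHom (𝟙 ((RHomR R L).obj M)) (𝟙 L) = 𝟙 _ := rfl
    rw [this, CategoryTheory.Functor.map_id]
    exact (Category.id_comp _).symm
  rw [h]
  infer_instance

end RHom

lemma IsUnivT.of_iso {V V' L M : Dual.D R} {v : (LTen₂ R).obj (V, L) ⟶ M} (h : IsUnivT v)
    (i : V' ≅ V) : IsUnivT (tm i.hom (𝟙 L) ≫ v) := by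
  intro N
  have h1 : (fun g : N ⟶ V' => tm g (𝟙 L) ≫ tm i.hom (𝟙 L) ≫ v) =
      (fun g : N ⟶ V => tm g (𝟙 L) ≫ v) ∘ (i.homToEquiv (Z := N)) := by
    funext g
    change _ = tm (g ≫ i.hom) (𝟙 L) ≫ v
    rw [tm_comp_assoc, Category.comp_id]
  rw [h1]
  exact (h N).comp (Equiv.bijective _)

lemma isUnivT_of_iso_iff {V V' L M : Dual.D R} {v : (LTen₂ R).obj (V, L) ⟶ M}
    (i : V' ≅ V) : IsUnivT (tm i.hom (𝟙 L) ≫ v) ↔ IsUnivT v := by
  refine ⟨fun h => ?_, fun h => h.of_iso i⟩
  have h2 := h.of_iso i.symm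
  rw [tm_comp_assoc, Iso.symm_hom, Iso.inv_hom_id, Category.comp_id, tm_id, Category.id_comp] at h2
  exact h2

lemma isUnivT_comp_iso_iff {V L M M' : Dual.D R} {v : (LTen₂ R).obj (V, L) ⟶ M}
    (j : M ≅ M') : IsUnivT (v ≫ j.hom) ↔ IsUnivT v := by
  have h1 : ∀ N : Dual.D R, (fun g : N ⟶ V => tm g (𝟙 L) ≫ v ≫ j.hom) =
      (j.homToEquiv (Z := (LTen₂ R).obj (N, L))) ∘ (fun g : N ⟶ V => tm g (𝟙 L) ≫ v) := by
    intro N
    funext g
    change _ = (tm g (𝟙 L) ≫ v) ≫ j.hom
    rw [Category.assoc]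
  constructor
  · intro h N
    have h2 := h N
    rw [h1 N] at h2
    exact (Function.Bijective.of_comp_iff' (Equiv.bijective _) _).1 h2
  · intro h N
    rw [h1 N]
    exact (Equiv.bijective _).comp (h N)

/-- Two universal arrows with the same target. -/
lemma IsUnivT.exists_iso {V V' L M : Dual.D R} {v : (LTen₂ R).obj (V, L) ⟶ M} (h : IsUnivT v)
    {v' : (LTen₂ R).obj (V', L) ⟶ M} (h' : IsUnivT v') :
    ∃ i : V' ≅ V, tm i.hom (𝟙 L) ≫ v = v' := by
  obtain ⟨a, ha⟩ := (h V').2 v'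
  obtain ⟨b, hb⟩ := (h' V).2 v
  dsimp only at ha hb
  refine ⟨⟨a, b, ?_, ?_⟩, ha⟩
  · apply (h' V').1
    dsimp only
    rw [tm_id, Category.id_comp]
    refine Eq.trans ?_ ha
    rw [← hb, tm_comp_assoc, Category.comp_id]
  · apply (h V).1
    dsimp only
    rw [tm_id, Category.id_comp]
    refine Eq.trans ?_ hb
    rw [← ha, tm_comp_assoc, Category.comp_id]

end One

end K367.ActD
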