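import Groth.Agent.LoccohB.LocHom
import Groth.Agent.LoccohB.LTenBC
import Groth.Agent.DRing.K232.TriTen
import Groth.Agent.LoccohB.Univ
import Groth.Agent.LoccohB.LTenUnit

/-!
# Flat base change of `RHom`, unbounded source

`nonempty_rhomBC`: `G (RHom_A(X, N)) ≅ RHom_B(X', G N)` for `G = - ⊗ B` flat, `X` with finite
cohomology (unbounded), `N` bounded below and of finite injective amplitude over `A` and over `B`.
-/

set_option autoImplicit false

universe u v₁ v₂ u₁ u₂

open CategoryTheory CategoryTheory.Limits MonoidalCategory TensorProduct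

attribute [local instance] HasDerivedCategory.standard

namespace K367.BCUniv

open Groth.Agent.LoccohB DerivedCategory HomBC FlatLBC

section Abs

variable {A : Type u} [CommRing A] (B : Type u) [CommRing B] [Algebra A B]
  {C : Type u₁} [Category.{v₁} C] [Preadditive C] [Linear A C]
  {D : Type u₂} [Category.{v₂} D] [Preadditive D] [Linear B D]
  (G : C ⥤ D) [G.Additive] [SemiLinear A B G]
  {L : C ⥤ C} [L.Additive] [L.Linear A] {L' R' : D ⥤ D} (adj' : L' ⊣ R') [L'.Additive]
  [L'.Linear B] (β : L ⋙ G ≅ G ⋙ L')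

/-- The base change of a map `L Y ⟶ N`. -/
def theta {Y N : C} (e : L.obj Y ⟶ N) : G.obj Y ⟶ R'.obj (G.obj N) :=
  adj'.homEquiv _ _ (β.inv.app Y ≫ G.map e)

/-- the linear map `f ↦ L f ≫ e`. -/
def homL {Y N : C} (e : L.obj Y ⟶ N) (Z : C) : (Z ⟶ Y) →ₗ[A] (L.obj Z ⟶ N) where
  toFun f := L.map f ≫ e
  map_add' f g := by rw [L.map_add, Preadditive.add_comp]
  map_smul' a f := by rw [L.map_smul, Linear.smul_comp]; rfl

theorem bijective_theta {Y N : C} (e : L.obj Y ⟶ N) (Z : C)
    (h1 : Function.Bijective (bc A B G Z Y)) (h2 : Function.Bijective (bc A B G (L.obj Z) N))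
    (h3 : Function.Bijective (homL (A := A) e Z)) :
    Function.Bijective (fun g : G.obj Z ⟶ G.obj Y => g ≫ theta G adj' β e) := by
  let T : (G.obj Z ⟶ G.obj Y) → (G.obj (L.obj Z) ⟶ G.obj N) := fun g =>
    β.hom.app Z ≫ L'.map g ≫ β.inv.app Y ≫ G.map e
  have hT : ∀ t : B ⊗[A] (Z ⟶ Y), T (bc A B G Z Y t) =
      bc A B G (L.obj Z) N ((homL (A := A) e Z).lTensor B t) := by
    intro t
    induction t using TensorProduct.induction_on with
    | zero => simp [T]
    | tmul b f =>
      have e1 := β.hom.naturality f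
      dsimp at e1
      have e2 : β.hom.app Y ≫ β.inv.app Y = 𝟙 _ := Iso.hom_inv_id_app _ _
      simp only [T, bc_tmul, LinearMap.lTensor_tmul, Functor.map_smul, Linear.smul_comp,
        Linear.comp_smul]
      rw [← reassoc_of% e1, reassoc_of% e2]
      change b • (G.map (L.map f) ≫ G.map e) = b • G.map (L.map f ≫ e)
      rw [G.map_comp]
    | add x y hx hy =>
      rw [map_add, map_add, map_add, ← hx, ← hy]
      simp only [T, L'.map_add, Preadditive.add_comp, Preadditive.comp_add]
  have hTb : Function.Bijective T := by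
    have h4 : Function.Bijective (T ∘ (bc A B G Z Y)) := by
      have h5 : T ∘ (bc A B G Z Y) = (bc A B G (L.obj Z) N) ∘ ((homL (A := A) e Z).lTensor B) :=
        funext hT
      rw [h5]
      refine h2.comp ?_
      exact (LinearEquiv.lTensor B (LinearEquiv.ofBijective _ h3)).bijective
    exact (Function.Bijective.of_comp_iff _ h1).1 h4
  have h6 : (fun g : G.obj Z ⟶ G.obj Y => g ≫ theta G adj' β e) =
      (adj'.homEquiv _ _) ∘ (β.app Z).homFromEquiv ∘ T := by
    funext g
    apply (adj'.homEquiv _ _).symm.injective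
    have e3 : (β.app Z).homFromEquiv (T g) = L'.map g ≫ β.inv.app Y ≫ G.map e := by
      change β.inv.app Z ≫ β.hom.app Z ≫ _ = _
      rw [Iso.inv_hom_id_app_assoc]
    change (adj'.homEquiv _ _).symm (g ≫ theta G adj' β e) =
      (adj'.homEquiv _ _).symm (adj'.homEquiv _ _ ((β.app Z).homFromEquiv (T g)))
    rw [Equiv.symm_apply_apply, e3, Adjunction.homEquiv_naturality_left_symm, theta,
      Equiv.symm_apply_apply]
  rw [h6]
  exact (adj'.homEquiv _ _).bijective.comp ((β.app Z).homFromEquiv.bijective.comp hTb)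

end Abs

section Derived

variable {A : Type u} [CommRing A] (B : Type u) [CommRing B] [Algebra A B]
  (h : (algebraMap A B).Flat)

/-- `A[-n] ⊗ B ≅ B[-n]`. -/
noncomputable def selfIso (n : ℤ) :
    (flatBC (algebraMap A B) h).obj (DBase.sg A n A) ≅ DBase.sg B n B :=
  haveI := LBC.hasLBaseChange (algebraMap A B)
  ((LBaseChangeIso (algebraMap A B) h).symm.app _) ≪≫ LBC.lbcSelfIso (algebraMap A B) n

/-- A morphism of `D(B)` inducing bijections on `Hom(A[-n] ⊗ B, -)` is an isomorphism. -/
lemma isIso_of_bijective {X Y : Dual.D B} (f : X ⟶ Y)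
    (hf : ∀ n : ℤ, Function.Bijective
      (fun g : (flatBC (algebraMap A B) h).obj (DBase.sg A n A) ⟶ X => g ≫ f)) : IsIso f := by
  refine Univ.isIso_of_sg f fun n => ?_
  have e : (fun g : DBase.sg B n B ⟶ X => g ≫ f) =
      ((selfIso B h n).homFromEquiv (Z := Y)) ∘
        (fun g : (flatBC (algebraMap A B) h).obj (DBase.sg A n A) ⟶ X => g ≫ f) ∘
          ((selfIso B h n).homFromEquiv (Z := X)).symm := by
    funext g
    change g ≫ f = (selfIso B h n).inv ≫ ((selfIso B h n).hom ≫ g) ≫ f
    rw [Category.assoc, Iso.inv_hom_id_assoc]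
  rw [e]
  exact (Equiv.bijective _).comp ((hf n).comp (Equiv.bijective _))

/-- **Flat base change of `RHom(X, N)`**, `X` with finite cohomology, `N` of finite injective
amplitude. -/
theorem nonempty_rhomBC_flat [IsNoetherianRing A] (X : DRing.Cx A) [DRing.HasRHomCx X]
    (hX : ∀ i : ℤ, Module.Finite A (Dual.HD A (DRing.toD X) i)) (Y : DRing.Cx B)
    [DRing.HasRHomCx Y]
    (eY : DRing.toD Y ≅ (flatBC (algebraMap A B) h).obj (DRing.toD X)) (N : Dual.D A) (k c : ℤ)
    [N.IsGE k] (hN : LocHom.InjLE N c) (hN' : LocHom.InjLE ((flatBC (algebraMap A B) h).obj N) c) :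
    Nonempty ((flatBC (algebraMap A B) h).obj ((DRing.RHomCx X).obj N) ≅
      (DRing.RHomCx Y).obj ((flatBC (algebraMap A B) h).obj N)) := by
  have hl := LBC.hasLBaseChange (algebraMap A B)
  have h1 := LTen.hasLTensorCx X
  have h2 := LTen.hasLTensorCx Y
  let i := LBaseChangeIso (algebraMap A B) h
  obtain ⟨β₀⟩ := LTenBC.ltenBC (algebraMap A B) X Y (eY ≪≫ i.symm.app _)
  let β : DRing.LTensorCx A X ⋙ flatBC (algebraMap A B) h ≅
      flatBC (algebraMap A B) h ⋙ DRing.LTensorCx B Y :=
    Functor.isoWhiskerLeft _ i.symm ≪≫ β₀ ≪≫ Functor.isoWhiskerRight i _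
  let adj := LTen.ltenAdj X
  let adj' := LTen.ltenAdj Y
  let e : (DRing.LTensorCx A X).obj ((DRing.RHomCx X).obj N) ⟶ N := adj.counit.app N
  have key : IsIso (theta (flatBC (algebraMap A B) h) adj' β e) := by
    refine isIso_of_bijective B h _ fun n => ?_
    refine bijective_theta (A := A) B (flatBC (algebraMap A B) h) adj' β e (DBase.sg A n A)
      (bc_self_bijective A B h n _) ?_ ?_
    · refine LocHom.bc_bijective_of_injLE B h _ (fun j => ?_) N k c hN hN'
      have h3 := LTenUnit.finite_lten X hX n j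
      exact ConeRes.finite_of_iso ((homologyFunctor (ModuleCat.{u} A) j).mapIso
        ((DRing.LTensorCx A X).mapIso
          ((singleFunctorIsoCompQ (ModuleCat.{u} A) n).app (ModuleCat.of A A)))).symm h3
    · have h4 : ⇑(homL (A := A) e (DBase.sg A n A)) = (adj.homEquiv _ _).symm := by
        funext f
        exact (adj.homEquiv_counit _ _ _).symm
      rw [h4]
      exact Equiv.bijective _
  exact ⟨asIso (theta (flatBC (algebraMap A B) h) adj' β e)⟩

end Derived

end K367.BCUniv
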