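import Groth.Agent.CycB.TrdegFrac
import Groth.Prelude.Def_Dual3

/-!
# `Dual3.resTrdeg` for morphisms of affine schemes
-/

set_option autoImplicit false

universe u

open CategoryTheory CategoryTheory.Limits AlgebraicGeometry

namespace K367.ResTrdeg

/-- `R ⟶ κ(y)` for a point `y` of `Spec R`. -/
noncomputable def toRes (R : Type u) [CommRing R] (y : Spec (CommRingCat.of R)) :
    R →+* (Spec (CommRingCat.of R)).residueField y :=
  (CommRingCat.ofHom (algebraMap R y.asIdeal.ResidueField) ≫
    (Scheme.Spec.residueFieldIso (CommRingCat.of R) y).inv).hom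

lemma toRes_eq (R : Type u) [CommRing R] (y : Spec (CommRingCat.of R)) :
    CommRingCat.ofHom (toRes R y) = (Scheme.ΓSpecIso (CommRingCat.of R)).inv ≫
      (Spec (CommRingCat.of R)).evaluation ⊤ y trivial := by
  exact Scheme.Spec.algebraMap_residueFieldIso_inv (CommRingCat.of R) y

lemma ker_toRes (R : Type u) [CommRing R] (y : Spec (CommRingCat.of R)) :
    y.asIdeal = RingHom.ker (toRes R y) := by
  ext a
  have hinj : Function.Injective (Scheme.Spec.residueFieldIso (CommRingCat.of R) y).inv.hom :=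
    (ConcreteCategory.bijective_of_isIso (Scheme.Spec.residueFieldIso (CommRingCat.of R) y).inv).1
  rw [RingHom.mem_ker]
  change _ ↔ (Scheme.Spec.residueFieldIso (CommRingCat.of R) y).inv.hom
    (algebraMap R y.asIdeal.ResidueField a) = 0
  rw [map_eq_zero_iff _ hinj, ← RingHom.mem_ker, Ideal.ker_algebraMap_residueField]

lemma frac_toRes (R : Type u) [CommRing R] (y : Spec (CommRingCat.of R))
    (k : (Spec (CommRingCat.of R)).residueField y) :
    ∃ a b : R, toRes R y b ≠ 0 ∧ k = toRes R y a / toRes R y b := by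
  obtain ⟨k, rfl⟩ := (ConcreteCategory.bijective_of_isIso
    (Scheme.Spec.residueFieldIso (CommRingCat.of R) y).inv).2 k
  obtain ⟨a, b, hb, rfl⟩ := IsFractionRing.div_surjective (A := R ⧸ y.asIdeal)
    (K := y.asIdeal.ResidueField) k
  obtain ⟨a, rfl⟩ := Ideal.Quotient.mk_surjective a
  obtain ⟨b, rfl⟩ := Ideal.Quotient.mk_surjective b
  refine ⟨a, b, ?_, ?_⟩
  · have hb' : Ideal.Quotient.mk y.asIdeal b ≠ 0 := nonZeroDivisors.ne_zero hb
    rw [Ne, Ideal.Quotient.eq_zero_iff_mem, ker_toRes, RingHom.mem_ker] at hb'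
    exact hb'
  · exact map_div₀ (Scheme.Spec.residueFieldIso (CommRingCat.of R) y).inv.hom _ _

theorem resTrdeg_Spec_map (R A : Type u) [CommRing R] [CommRing A] [Algebra R A]
    (q : Spec (CommRingCat.of A)) :
    Dual3.resTrdeg (Spec.map (CommRingCat.ofHom (algebraMap R A))) q =
      Algebra.trdeg (R ⧸ q.asIdeal.under R) (A ⧸ q.asIdeal) := by
  let f : Spec (CommRingCat.of A) ⟶ Spec (CommRingCat.of R) :=
    Spec.map (CommRingCat.ofHom (algebraMap R A))
  have hlies : q.asIdeal.LiesOver (q.asIdeal.under R) := ⟨rfl⟩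
  refine Groth.Agent.CycB.TrdegFrac.trdeg_quotient R A _ _ (toRes R (f q)) (toRes A q)
    (f.residueFieldMap q).hom ?_ (frac_toRes R _) (frac_toRes A _) (q.asIdeal.under R) q.asIdeal
    (ker_toRes R (f q)) (ker_toRes A q)
  have h1 : CommRingCat.ofHom (toRes R (f q)) ≫ f.residueFieldMap q =
      CommRingCat.ofHom (algebraMap R A) ≫ CommRingCat.ofHom (toRes A q) := by
    rw [toRes_eq, toRes_eq, Category.assoc]
    have e1 := Scheme.evaluation_naturality f (V := ⊤) q trivial
    have e2 := Scheme.ΓSpecIso_inv_naturality (CommRingCat.ofHom (algebraMap R A))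
    rw [reassoc_of% e2]
    exact congrArg (fun t => (Scheme.ΓSpecIso (CommRingCat.of R)).inv ≫ t) e1
  exact congrArg (fun t => t.hom) h1

end K367.ResTrdeg
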