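import Groth.Agent.LoccohB.LTenBC
import Groth.Prelude.Def_DTen

/-!
# `R (RHom_A(X, N)) ≅ RHom_B(X_B, R N)` for `R` right adjoint to restriction of scalars

* `resLTen`: the projection formula `Z|_A ⊗^L P ≅ (Z ⊗^L P_B)|_A`, naturally in `Z`;
* `nonempty_rhom_radj`.
-/

set_option autoImplicit false

universe u

open CategoryTheory CategoryTheory.Limits MonoidalCategory

attribute [local instance] HasDerivedCategory.standard

namespace K367.RhomRadj

open Groth.Agent.LoccohB DerivedCategory LTen ProjF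

variable {A B : Type u} [CommRing A] [CommRing B] (φ : A →+* B)

/-- `Q K ⊗^L E ≅ Q (K ⊗ E)`, naturally in `K`, for `E` K-projective. -/
noncomputable def ltenNatIso (E : DRing.Cx A) [DRing.HasLTensorCx A E] [E.IsKProjective] :
    Q ⋙ DRing.LTensorCx A E ≅ tensorRight E ⋙ Q :=
  NatIso.ofComponents (fun K => ltenIso' E K) fun f => (ltenCounit E).naturality f

/-- `(Z|_A) ⊗ P ≅ (Z ⊗ P_B)|_A` for complexes, naturally in `Z`. -/
noncomputable def resTenCx (P : DRing.Cx A) :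
    resCx φ ⋙ tensorRight P ≅ tensorRight ((extCx φ).obj P) ⋙ resCx φ :=
  NatIso.ofComponents (fun Z => DTen.braidCx ((resCx φ).obj Z) P ≪≫ projIso φ P Z ≪≫
      (resCx φ).mapIso (DTen.braidCx ((extCx φ).obj P) Z)) (by
    intro Z Z' f
    have e1 := DTen.braidCx_naturality ((resCx φ).map f) (𝟙 P)
    have e2 := projMap_naturality_right φ P Z f
    have e3 := DTen.braidCx_naturality (𝟙 ((extCx φ).obj P)) f
    rw [MonoidalCategory.tensorHom_id, MonoidalCategory.id_tensorHom] at e1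
    rw [MonoidalCategory.tensorHom_id, MonoidalCategory.id_tensorHom] at e3
    change ((resCx φ).map f ▷ P) ≫ (DTen.braidCx ((resCx φ).obj Z') P).hom ≫ projMap φ P Z' ≫
        (resCx φ).map (DTen.braidCx ((extCx φ).obj P) Z').hom =
      ((DTen.braidCx ((resCx φ).obj Z) P).hom ≫ projMap φ P Z ≫
        (resCx φ).map (DTen.braidCx ((extCx φ).obj P) Z).hom) ≫
          (resCx φ).map (f ▷ (extCx φ).obj P)
    rw [reassoc_of% e1, reassoc_of% e2, ← Functor.map_comp, e3]
    simp only [Functor.map_comp, Category.assoc])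

section

variable (P : DRing.Cx A) [P.IsKProjective] [DRing.HasLTensorCx A P]
  [DRing.HasLTensorCx B ((extCx φ).obj P)]

/-- The projection formula. -/
noncomputable def resLTen [((extCx φ).obj P).IsKProjective] :
    DRing.restrictD φ ⋙ DRing.LTensorCx A P ≅
      DRing.LTensorCx B ((extCx φ).obj P) ⋙ DRing.restrictD φ :=
  let rF : Q ⋙ DRing.restrictD φ ≅ resCx φ ⋙ Q :=
    (ModuleCat.restrictScalars.{u} φ).mapDerivedCategoryFactors
  letI : Localization.Lifting Q (HomologicalComplex.quasiIso (ModuleCat.{u} B) (ComplexShape.up ℤ))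
      ((resCx φ ⋙ tensorRight P) ⋙ Q) (DRing.restrictD φ ⋙ DRing.LTensorCx A P) :=
    ⟨(Functor.associator _ _ _).symm ≪≫ Functor.isoWhiskerRight rF _ ≪≫
      Functor.associator _ _ _ ≪≫ Functor.isoWhiskerLeft (resCx φ) (ltenNatIso P) ≪≫
        (Functor.associator _ _ _).symm⟩
  letI : Localization.Lifting Q (HomologicalComplex.quasiIso (ModuleCat.{u} B) (ComplexShape.up ℤ))
      ((tensorRight ((extCx φ).obj P) ⋙ resCx φ) ⋙ Q)
      (DRing.LTensorCx B ((extCx φ).obj P) ⋙ DRing.restrictD φ) :=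
    ⟨(Functor.associator _ _ _).symm ≪≫ Functor.isoWhiskerRight (ltenNatIso _) _ ≪≫
      Functor.associator _ _ _ ≪≫ Functor.isoWhiskerLeft (tensorRight _) rF ≪≫
        (Functor.associator _ _ _).symm⟩
  Localization.liftNatIso Q (HomologicalComplex.quasiIso (ModuleCat.{u} B) (ComplexShape.up ℤ))
    ((resCx φ ⋙ tensorRight P) ⋙ Q) ((tensorRight ((extCx φ).obj P) ⋙ resCx φ) ⋙ Q) _ _
    (Functor.isoWhiskerRight (resTenCx φ P) Q)

end

/-- `RHomCx E` only depends on the class of `E` in the derived category. -/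
theorem nonempty_rhomCongr {E E' : DRing.Cx A} [DRing.HasRHomCx E] [DRing.HasRHomCx E']
    (e : DRing.toD E ≅ DRing.toD E') : Nonempty (DRing.RHomCx E ≅ DRing.RHomCx E') := by
  have := hasLTensorCx E
  have := hasLTensorCx E'
  obtain ⟨i⟩ := ltenCongr e
  exact ⟨Adjunction.rightAdjointUniq (ltenAdj E) ((ltenAdj E').ofNatIsoLeft i.symm)⟩

/-- **`R (RHom_A(X, N)) ≅ RHom_B(X_B, R N)`.** -/
theorem nonempty_rhom_radj [DRing.HasLBaseChange φ] {R : Dual.D A ⥤ Dual.D B}
    (adj : DRing.restrictD φ ⊣ R) (X : DRing.Cx A) [DRing.HasRHomCx X] (Y : DRing.Cx B)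
    [DRing.HasRHomCx Y] (e : DRing.toD Y ≅ (DRing.LBaseChange φ).obj (DRing.toD X)) :
    Nonempty (DRing.RHomCx X ⋙ R ≅ R ⋙ DRing.RHomCx Y) := by
  obtain ⟨P, p, hP, hp, -, -⟩ := KProj.exists_kprojective X
  have h1 := RHomVal.hasRHomCx P
  have h2 := RHomVal.hasRHomCx ((extCx φ).obj P)
  have h3 := hasLTensorCx P
  have h4 := hasLTensorCx ((extCx φ).obj P)
  obtain ⟨e1⟩ := nonempty_rhomCongr (E := X) (E' := P) (asIso (Q.map p)).symm
  obtain ⟨e2⟩ := nonempty_rhomCongr (E := (extCx φ).obj P) (E' := Y)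
    (((LBC.lbcQIso φ P).symm ≪≫ (DRing.LBaseChange φ).mapIso (asIso (Q.map p))) ≪≫ e.symm)
  have a1 : DRing.restrictD φ ⋙ DRing.LTensorCx A P ⊣ DRing.RHomCx P ⋙ R :=
    adj.comp (ltenAdj P)
  have a2 : DRing.LTensorCx B ((extCx φ).obj P) ⋙ DRing.restrictD φ ⊣
      R ⋙ DRing.RHomCx ((extCx φ).obj P) := (ltenAdj ((extCx φ).obj P)).comp adj
  exact ⟨Functor.isoWhiskerRight e1 R ≪≫
    Adjunction.rightAdjointUniq a1 (a2.ofNatIsoLeft (resLTen φ P).symm) ≪≫
      Functor.isoWhiskerLeft R e2⟩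

end K367.RhomRadj
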