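import Groth.Agent.LoccohB.LBC2
import Groth.Agent.LoccohB.RAdj

/-!
Restriction along a bijective ring map: right adjoint and base change agree.
-/

set_option autoImplicit false

universe u

open CategoryTheory CategoryTheory.Limits

attribute [local instance] HasDerivedCategory.standard

namespace K367.RingEquivD

open DerivedCategory Groth.Agent.LoccohB.LBC

variable {A B : Type u} [CommRing A] [CommRing B] (e : A ≃+* B)

/-- Restriction along a ring isomorphism is an equivalence of derived categories. -/
noncomputable def equivD : Dual.D B ≌ Dual.D A :=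
  CategoryTheory.Equivalence.mk (DRing.restrictD (e : A →+* B)) (DRing.restrictD (e.symm : B →+* A))
    ((restrictDId (RingHom.id B) rfl).symm ≪≫
      (restrictDComp (e.symm : B →+* A) (e : A →+* B) (RingHom.id B)
        (by ext x; simp)).symm)
    (restrictDComp (e : A →+* B) (e.symm : B →+* A) (RingHom.id A) (by ext x; simp) ≪≫
      restrictDId (RingHom.id A) rfl)

/-- A right adjoint of restriction along a ring isomorphism is base change. -/
theorem radj_iso_lbc (R : Dual.D A ⥤ Dual.D B) (adj : DRing.restrictD (e : A →+* B) ⊣ R)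
    [DRing.HasLBaseChange (e : A →+* B)] :
    Nonempty (R ≅ DRing.LBaseChange (e : A →+* B)) :=
  ⟨adj.rightAdjointUniq (equivD e).toAdjunction ≪≫
    (equivD e).symm.toAdjunction.leftAdjointUniq (lbcAdj (e : A →+* B))⟩

/-- The same for a bijective ring homomorphism. -/
theorem radj_iso_lbc_of_bijective (φ : A →+* B) (hφ : Function.Bijective φ)
    (R : Dual.D A ⥤ Dual.D B) (adj : DRing.restrictD φ ⊣ R) [DRing.HasLBaseChange φ] :
    Nonempty (R ≅ DRing.LBaseChange φ) := by
  obtain ⟨e, rfl⟩ : ∃ e : A ≃+* B, (e : A →+* B) = φ := ⟨RingEquiv.ofBijective φ hφ, rfl⟩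
  exact radj_iso_lbc e R adj

end K367.RingEquivD
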