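import Groth.Agent.DTen.K785.EvTenMain
import Groth.Agent.LoccohB.LTen
import Groth.Agent.DTen.K785.Struct

/-!
# The structure binders of `Def_DTen3` hold

`isSymMonoidal` and `hasRHom`.
-/

set_option autoImplicit false

universe u

open CategoryTheory CategoryTheory.Limits MonoidalCategory

attribute [local instance] HasDerivedCategory.standard

namespace K367.SymMon

open DTen Groth.Agent.LoccohB K785.Basic K785.Struct DerivedCategory

variable (A : Type u) [CommRing A] [HasLTen A]

/-- `D(A)` is symmetric monoidal: the five structure maps are isomorphisms. -/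
theorem isSymMonoidal [HasLTen₃ A] : IsSymMonoidal A where
  isIso_symm := by
    have := isIso_symm_app (A := A)
    exact NatIso.isIso_of_isIso_app _
  isIso_unitL := by
    have : ∀ K, IsIso ((unitL A).app K) := isIso_app_of_kproj (unitL A) fun P _ => by
      rw [unitL_app]
      infer_instance
    exact NatIso.isIso_of_isIso_app _
  isIso_unitR := by
    have : ∀ K, IsIso ((unitR A).app K) := isIso_app_of_kproj (unitR A) fun P _ => by
      rw [unitR_app]
      infer_instance
    exact NatIso.isIso_of_isIso_app _
  isIso_assocL := by
    have := isIso_assocL_app (A := A)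
    exact NatIso.isIso_of_isIso_app _
  isIso_assocR := by
    have := isIso_assocR_app (A := A)
    exact NatIso.isIso_of_isIso_app _

instance isIso_toLTensorCx (E : DRing.Cx A) [DRing.HasLTensorCx A E] :
    IsIso (toLTensorCx A E) := by
  have : ∀ K, IsIso ((toLTensorCx A E).app K) := isIso_app_of_kproj (toLTensorCx A E) fun P _ => by
    have e := toLTensorCx_fac A E P
    have h1 : IsIso ((toLTensorCx A E).app (DerivedCategory.Q.obj P) ≫
      (LTen.ltenCounit E).app P) := by
      rw [e]
      infer_instance
    exact IsIso.of_isIso_comp_right _ ((LTen.ltenCounit E).app P)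
  exact NatIso.isIso_of_isIso_app _

/-- `D(A)` is closed. -/
theorem hasRHom : HasRHom A where
  isLeftAdjoint L := by
    obtain ⟨P, hP, ⟨e⟩⟩ := exists_rep L
    have := LTen.hasLTensorCx P
    have := RHomVal.hasRHomCx P
    have h1 : (DRing.LTensorCx A P).IsLeftAdjoint := (LTen.ltenAdj P).isLeftAdjoint
    have h2 : ((LTen A).flip.obj (DerivedCategory.Q.obj P)).IsLeftAdjoint :=
      Functor.isLeftAdjoint_of_iso (asIso (toLTensorCx A P)).symm
    exact Functor.isLeftAdjoint_of_iso ((LTen A).flip.mapIso e)

end K367.SymMon
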