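import Groth.Agent.DTen.K785.EvTenMain
import Groth.Agent.DTen.K785.KapIso
import Groth.Agent.DTen.K786.Good
import Groth.Agent.DRing.K226.KFlat

/-!
# `evalTen N L M` is an isomorphism if `N` is a bounded complex of flat modules, `L` is bounded
below and `M` is pseudo-coherent.
-/

set_option autoImplicit false

universe u

open CategoryTheory CategoryTheory.Limits MonoidalCategory CochainComplex CochainComplex.HomComplex

attribute [local instance] HasDerivedCategory.standard

namespace K367.ThetaPC

open DTen Groth.Agent.LoccohB Groth.Agent.LoccohB.TenCx ThetaHom K785.KapIso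

variable {A : Type u} [CommRing A]

/-- The finiteness conditions. -/
structure FinT (N F J : DRing.Cx A) where
  /-- finite sets of degrees -/
  T : ℤ → Finset ℤ
  hT : ∀ (n p m q s : ℤ), p + m = n → m + q = s → q ∉ T n →
    (∀ x : N.X p, x = 0) ∨ (∀ y : F.X q, y = 0) ∨ (∀ j : J.X s, j = 0)

section Iso

variable {N F J : DRing.Cx A} (W : FinT N F J) (D : DB F)

include W in
lemma tensor_zero (n r q : ℤ) (h : n + q = r) (hq : q ∉ W.T n) :
    (∀ y : F.X q, y = 0) ∨ (∀ w : (N ⊗ J : DRing.Cx A).X r, w = 0) := by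
  by_cases hy : ∀ y : F.X q, y = 0
  · exact Or.inl hy
  · refine Or.inr fun w => ?_
    have : (𝟙 ((N ⊗ J : DRing.Cx A).X r)) = 0 := by
      refine hom_ext_tmk fun p s hps x j => ?_
      change tmk N J p s r hps x j = 0
      rcases W.hT n p (n - p) q s (by omega) (by omega) hq with h1 | h1 | h1
      · rw [h1 x, map_zero]
        rfl
      · exact absurd h1 hy
      · rw [h1 j, map_zero]
    exact congr($(this).hom w)

/-- the inverse of `theta` in degree `n`. -/
noncomputable def thetaInv (n : ℤ) :
    Cochain F (N ⊗ J : DRing.Cx A) n →ₗ[A] (N ⊗ DRing.homCx F J : DRing.Cx A).X n :=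
  ∑ q ∈ W.T n, ∑ k, (tbox N F J (D.V q k) (n + q) n rfl).hom ∘ₗ
    (evC F (N ⊗ J : DRing.Cx A) n q (n + q) rfl).flip (D.U q k)

lemma thetaInv_apply (n : ℤ) (z : Cochain F (N ⊗ J : DRing.Cx A) n) :
    thetaInv W D n z = ∑ q ∈ W.T n, ∑ k,
      (tbox N F J (D.V q k) (n + q) n rfl).hom
        (evC F (N ⊗ J : DRing.Cx A) n q (n + q) rfl z (D.U q k)) := by
  unfold thetaInv
  simp only [LinearMap.sum_apply, LinearMap.comp_apply, LinearMap.flip_apply]

lemma theta_thetaInv (n : ℤ) (z : Cochain F (N ⊗ J : DRing.Cx A) n) :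
    ((theta N F J).f n).hom (thetaInv W D n z) = z := by
  rw [thetaInv_apply, map_sum]
  refine Eq.trans (Finset.sum_congr rfl fun q _ => ?_) (sum_box' D (N ⊗ J : DRing.Cx A) (W.T n) n
    (fun s q h hq => tensor_zero W n s q h hq) z)
  rw [map_sum]
  refine Finset.sum_congr rfl fun k _ => ?_
  exact tbox_theta N F J (D.V q k) (n + q) n rfl _

lemma thetaInv_theta (n : ℤ) (t : (N ⊗ DRing.homCx F J : DRing.Cx A).X n) :
    thetaInv W D n (((theta N F J).f n).hom t) = t := by
  have : (theta N F J).f n ≫ ModuleCat.ofHom (X := (DRing.homCx F (N ⊗ J : DRing.Cx A)).X n)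
      (thetaInv W D n) = 𝟙 _ := by
    refine hom_ext_tmk fun p m h x g => ?_
    by_cases hx : ∀ x : N.X p, x = 0
    · have e0 : tmk N (DRing.homCx F J) p m n h x g = 0 := by
        rw [hx x, map_zero]
        rfl
      exact (congrArg (fun t => ((theta N F J).f n ≫ ModuleCat.ofHom
        (X := (DRing.homCx F (N ⊗ J : DRing.Cx A)).X n) (thetaInv W D n)).hom t) e0).trans
          ((map_zero _).trans e0.symm)
    refine (congrArg (thetaInv W D n) (theta_tmk N F J p m n h x g)).trans ?_
    refine (thetaInv_apply W D n _).trans ?_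
    have e2 := congrArg (tmk N (DRing.homCx F J) p m n h x) (sum_box' D J (W.T n) m
      (fun s q hs hq => by
        rcases W.hT n p m q s h hs hq with h1 | h1 | h1
        · exact absurd h1 hx
        · exact Or.inl h1
        · exact Or.inr h1) g)
    refine Eq.trans ?_ e2
    refine Eq.trans ?_ (map_sum (tmk N (DRing.homCx F J) p m n h x) _ _).symm
    refine Finset.sum_congr rfl fun q _ => ?_
    refine Eq.trans ?_ (map_sum (tmk N (DRing.homCx F J) p m n h x) _ _).symm
    refine Finset.sum_congr rfl fun k _ => ?_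
    have e3 := evC_thetaBil N F J p m n h x g q (n + q) (m + q) rfl rfl (D.U q k)
    refine (congrArg (tbox N F J (D.V q k) (n + q) n rfl).hom e3).trans ?_
    exact tbox_tmk N F J (D.V q k) (n + q) n rfl p m (m + q) (by omega) rfl x _
  exact congr($(this).hom t)

include W D in
lemma isIso_theta : IsIso (theta N F J) := by
  have : ∀ n, IsIso ((theta N F J).f n) := fun n => by
    rw [ConcreteCategory.isIso_iff_bijective]
    exact ⟨Function.LeftInverse.injective (g := thetaInv W D n) (thetaInv_theta W D n),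
      Function.RightInverse.surjective (g := thetaInv W D n) (theta_thetaInv W D n)⟩
  exact HomologicalComplex.Hom.isIso_of_components _

end Iso

lemma eq_zero_of_isZero {M : ModuleCat.{u} A} (h : IsZero M) (x : M) : x = 0 := by
  have := ModuleCat.subsingleton_of_isZero h
  exact Subsingleton.elim _ _

/-- The boundedness conditions imply the finiteness conditions. -/
noncomputable def finT {N F J : DRing.Cx A} {a b d : ℤ} (hN : ∀ p, p < a → IsZero (N.X p))
    (hF : ∀ q, b < q → IsZero (F.X q)) (hJ : ∀ s, s < d → IsZero (J.X s)) : FinT N F J where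
  T n := Finset.Icc (d - n + a) b
  hT n p m q s h₁ h₂ hq := by
    by_cases hp : p < a
    · exact Or.inl fun x => eq_zero_of_isZero (hN p hp) x
    · rw [Finset.mem_Icc, not_and_or, not_le, not_le] at hq
      rcases hq with hq | hq
      · exact Or.inr (Or.inr fun j => eq_zero_of_isZero (hJ s (by omega)) j)
      · exact Or.inr (Or.inl fun y => eq_zero_of_isZero (hF q hq) y)

section Main

variable [HasLTen A] [HasRHom A] [HasLTen₃ A] [IsSymMonoidal A]

open K785.EvTen K785.HomC K785.Curry K785.Basic

/-- `evalTen` is an isomorphism if `theta` is, `N` is K-flat and `F` is K-projective. -/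
lemma isIso_evalTen_Q (N F J : DRing.Cx A) (hN : DRing.IsKFlat A N) [F.IsKProjective]
    (h : IsIso (ThetaHom.theta N F J)) :
    IsIso (evalTen (DerivedCategory.Q.obj N) (DerivedCategory.Q.obj J)
      (DerivedCategory.Q.obj F)) := by
  have e := evalTen_fac N F J
  have h0 : IsIso ((ε A).app (N, J)) := K786.Good.isIso_ε_left N J hN
  have h0' : IsIso ((ε A).app (N, DRing.homCx F J)) := K786.Good.isIso_ε_left N _ hN
  have h1 : IsIso ((RHomR A (DerivedCategory.Q.obj F)).map ((ε A).app (N, J))) := inferInstance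
  rw [← IsIso.eq_inv_comp, ← IsIso.eq_comp_inv] at e
  rw [e]
  infer_instance

/-- bounded above complexes of flat modules are K-flat. -/
lemma isKFlat_of_vanishesAbove (N : DRing.Cx A) {c : ℤ} (hN : ∀ p, c < p → IsZero (N.X p))
    (hN' : DRing.TermwiseFlat N) : DRing.IsKFlat A N :=
  (K226.KFlat.isKF_iff N).2 (K226.KFlat.kfl_of_boundedAbove N c hN hN')

theorem isIso_evalTen_of_pseudoCoherent (K L M : Dual.D A) (hK : DRing.HasFiniteTorDimCx A K)
    (n : ℤ) [L.IsGE n] (hM : DRing.IsPseudoCoherent' A M) : IsIso (evalTen K L M) := by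
  obtain ⟨a, c, N, hN, hN', ⟨eK⟩⟩ := hK
  obtain ⟨F, b, hF, hF', ⟨eM⟩⟩ := hM
  obtain ⟨J, hJ, ⟨eL⟩⟩ := L.exists_iso_Q_obj_of_isGE n
  have hFp : DRing.TermwiseFiniteProjective F := fun i => by
    have h1 := (hF' i).1
    have h2 := (hF' i).2
    exact ⟨h1, inferInstance⟩
  have hFK : F.IsKProjective := PerfTri.isKProjective_of_vanishesAbove (b := b) hF
    (fun i => (hFp i).2)
  obtain ⟨D⟩ := exists_DB F hFp
  have W : FinT N F J := finT (a := a) (b := b) (d := n) (fun p hp => hN p (Or.inl hp)) hF
    (fun s hs => CochainComplex.isZero_of_isStrictlyGE J n s hs)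
  exact isIso_evalTen_of_iso eK eL.symm eM (isIso_evalTen_Q N F J
    (isKFlat_of_vanishesAbove N (fun p hp => hN p (Or.inr hp)) hN') (isIso_theta W D))

end Main

end K367.ThetaPC
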