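import Groth.Agent.Dual2.K367.ActD
import Groth.Agent.DTen.K785.EvTen
import Groth.Prelude.Def_TrivBC

/-!
# Base change for trivial duality and the evaluation map

`main`: if the comparison maps `cmp` are isomorphisms, then `TrivBC.bcMap` is an isomorphism iff
`evalTen R' K A` is.
-/

set_option autoImplicit false

universe u

open CategoryTheory CategoryTheory.Limits MonoidalCategory

attribute [local instance] HasDerivedCategory.standard

namespace K367.TrivAct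

open DTen Groth.Agent.LoccohB K785.EvTen K785.Basic K367.ActCx K367.ActD DerivedCategory

section Fac

variable {R S : Type u} [CommRing R] [CommRing S] (f : R →+* S) [HasLTen R]

@[reassoc]
lemma ac_fac {Z : Dual.D S} (P : DRing.Cx S) (e : Z ⟶ Q.obj P) :
    ac f Z ≫ (DRing.restrictD f).map e ≫ (resFactors f).hom.app P =
      tm ((DRing.restrictD f).map e ≫ (resFactors f).hom.app P) (𝟙 (S0D f)) ≫
        (ε R).app ((resCx f).obj P, S0 f) ≫ Q.map (act f P) := by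
  rw [← ac_nat_assoc, ac_Q]
  simp only [Category.assoc, Iso.inv_hom_id_app]
  rw [tm_comp_assoc, Category.comp_id]
  exact congrArg (fun t => tm ((DRing.restrictD f).map e ≫ (resFactors f).hom.app P)
    (𝟙 (S0D f)) ≫ (ε R).app ((resCx f).obj P, S0 f) ≫ t) (Category.comp_id _)

end Fac

section Square

variable {R A R' A' : Type u} [CommRing R] [CommRing A] [CommRing R'] [CommRing A']
  {φ : R →+* A} {ρ : R →+* R'} {α : A →+* A'} {φ' : R' →+* A'} (h : α.comp φ = φ'.comp ρ)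

/-- `(QT)|_A|_R ⟶ Q(T|_A|_R)`. -/
noncomputable def rf₂ (φ : R →+* A) (α : A →+* A') (T : DRing.Cx A') :
    (DRing.restrictD φ).obj ((DRing.restrictD α).obj (Q.obj T)) ⟶
      Q.obj ((resCx φ).obj ((resCx α).obj T)) :=
  (DRing.restrictD φ).map ((resFactors α).hom.app T) ≫ (resFactors φ).hom.app ((resCx α).obj T)

/-- The commutation of restrictions, on images of complexes. -/
@[reassoc]
lemma resComm_Q (T : DRing.Cx A') :
    (TrivBC.resComm h).hom.app (Q.obj T) ≫ rf₂ ρ φ' T = rf₂ φ α T ≫ Q.map (cIso h T).hom := by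
  let _ := TrivBC.liftingRes₂ α φ
  let _ := TrivBC.liftingRes₂ φ' ρ
  have e : (TrivBC.resComm h).hom.app (Q.obj T) = (TrivBC.liftingRes₂ α φ).iso.hom.app T ≫
      (TrivBC.resCommCx h).hom.app T ≫ (TrivBC.liftingRes₂ φ' ρ).iso.inv.app T :=
    Localization.liftNatTrans_app (DerivedCategory.Q (C := ModuleCat.{u} A'))
      (HomologicalComplex.quasiIso (ModuleCat.{u} A') (ComplexShape.up ℤ)) _ _ _ _
      (TrivBC.resCommCx h).hom T
  have e1 : ∀ {A₁ A₂ A₃ : Type u} [CommRing A₁] [CommRing A₂] [CommRing A₃] (g : A₂ →+* A₃)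
      (f : A₁ →+* A₂) (T : DRing.Cx A₃), (TrivBC.liftingRes₂ g f).iso.hom.app T = rf₂ f g T := by
    intro A₁ A₂ A₃ _ _ _ g f T
    change 𝟙 _ ≫ (DRing.restrictD f).map ((resFactors g).hom.app T) ≫ 𝟙 _ ≫
      (resFactors f).hom.app ((resCx g).obj T) = _
    rw [Category.id_comp, Category.id_comp]
    rfl
  have e2 : (TrivBC.resCommCx h).hom.app T = Q.map (cIso h T).hom := by
    dsimp [TrivBC.resCommCx, cIso]
    simp only [Category.id_comp, Category.comp_id]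
  have e3 : (TrivBC.liftingRes₂ φ' ρ).iso.inv.app T ≫ (TrivBC.liftingRes₂ φ' ρ).iso.hom.app T = 𝟙 _ :=
    Iso.inv_hom_id_app _ _
  rw [e1] at e3
  refine (congrArg (fun t => t ≫ rf₂ ρ φ' T) (e.trans (congrArg₂ (fun s t => s ≫ t ≫ 
    (TrivBC.liftingRes₂ φ' ρ).iso.inv.app T) (e1 α φ T) e2))).trans ?_
  refine ((Category.assoc _ _ _).trans (congrArg (fun t => rf₂ φ α T ≫ t) 
    (Category.assoc _ _ _))).trans ?_
  refine (congrArg (fun t => rf₂ φ α T ≫ Q.map (cIso h T).hom ≫ t) e3).trans ?_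
  exact congrArg (fun t => rf₂ φ α T ≫ t) (Category.comp_id _)

@[reassoc]
lemma resComm_inv_Q (T : DRing.Cx A') :
    (TrivBC.resComm h).inv.app (Q.obj T) ≫ rf₂ φ α T = rf₂ ρ φ' T ≫ Q.map (cIso h T).inv := by
  have e := resComm_Q h T
  have e1 : (TrivBC.resComm h).inv.app (Q.obj T) ≫ (TrivBC.resComm h).hom.app (Q.obj T) = 𝟙 _ :=
    Iso.inv_hom_id_app _ _
  have e2 : Q.map (cIso h T).hom ≫ Q.map (cIso h T).inv = 𝟙 _ := by
    rw [← Functor.map_comp, Iso.hom_inv_id, CategoryTheory.Functor.map_id]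
  have e3 : (TrivBC.resComm h).inv.app (Q.obj T) ≫ (TrivBC.resComm h).hom.app (Q.obj T) ≫
      rf₂ ρ φ' T ≫ Q.map (cIso h T).inv = (TrivBC.resComm h).inv.app (Q.obj T) ≫ rf₂ φ α T := by
    rw [reassoc_of% e, e2, Category.comp_id]
  rw [← e3]
  exact (reassoc_of% e1) _

instance isIso_rf₂ (T : DRing.Cx A') : IsIso (rf₂ φ α T) := by
  unfold rf₂
  infer_instance

@[reassoc]
lemma ac_rf₂ [HasLTen R] (T : DRing.Cx A') :
    ac φ ((DRing.restrictD α).obj (Q.obj T)) ≫ rf₂ φ α T =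
      tm (rf₂ φ α T) (𝟙 (S0D φ)) ≫ (ε R).app ((resCx φ).obj ((resCx α).obj T), S0 φ) ≫
        Q.map (act φ ((resCx α).obj T)) :=
  ac_fac φ ((resCx α).obj T) ((resFactors α).hom.app T)

section Beta

variable [HasLTen R]

/-- The left action of `R'` in `D(R)`. -/
noncomputable def betaD (T : Dual.D A') :
    (LTen₂ R).obj (S0D ρ, (DRing.restrictD φ).obj ((DRing.restrictD α).obj T)) ⟶
      (DRing.restrictD φ).obj ((DRing.restrictD α).obj T) :=
  tm (𝟙 (S0D ρ)) ((TrivBC.resComm h).hom.app T) ≫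
    (DTen.symm R).app ((DRing.restrictD ρ).obj ((DRing.restrictD φ').obj T), S0D ρ) ≫
      ac ρ ((DRing.restrictD φ').obj T) ≫ (TrivBC.resComm h).inv.app T

@[reassoc]
lemma betaD_nat {T T' : Dual.D A'} (g : T ⟶ T') :
    tm (𝟙 (S0D ρ)) ((DRing.restrictD φ).map ((DRing.restrictD α).map g)) ≫ betaD h T' =
      betaD h T ≫ (DRing.restrictD φ).map ((DRing.restrictD α).map g) := by
  have e1 : (DRing.restrictD φ).map ((DRing.restrictD α).map g) ≫ (TrivBC.resComm h).hom.app T' =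
      (TrivBC.resComm h).hom.app T ≫ (DRing.restrictD ρ).map ((DRing.restrictD φ').map g) :=
    (TrivBC.resComm h).hom.naturality g
  have e2 : (DRing.restrictD ρ).map ((DRing.restrictD φ').map g) ≫ (TrivBC.resComm h).inv.app T' =
      (TrivBC.resComm h).inv.app T ≫ (DRing.restrictD φ).map ((DRing.restrictD α).map g) :=
    (TrivBC.resComm h).inv.naturality g
  rw [betaD, betaD, tm_comp_assoc, e1, Category.assoc, Category.assoc, Category.assoc, ← e2,
    ← ac_nat_assoc, ← symm_nat_assoc, tm_comp_assoc]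

@[reassoc]
lemma betaD_Q (T : DRing.Cx A') : betaD h (Q.obj T) ≫ rf₂ φ α T =
    tm (𝟙 (S0D ρ)) (rf₂ φ α T) ≫ (ε R).app (S0 ρ, (resCx φ).obj ((resCx α).obj T)) ≫
      Q.map (beta h T) := by
  rw [betaD]
  simp only [Category.assoc]
  rw [resComm_inv_Q]
  have e1 := ac_rf₂ (φ := ρ) (α := φ') T
  have e2 : ac ρ ((DRing.restrictD φ').obj (Q.obj T)) ≫ rf₂ ρ φ' T ≫ Q.map (cIso h T).inv =
      tm (rf₂ ρ φ' T) (𝟙 (S0D ρ)) ≫ (ε R).app ((resCx ρ).obj ((resCx φ').obj T), S0 ρ) ≫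
        Q.map (act ρ ((resCx φ').obj T) ≫ (cIso h T).inv) := by
    rw [Functor.map_comp]
    have := congrArg (fun t => t ≫ Q.map (cIso h T).inv) e1
    simp only [Category.assoc] at this ⊢
    exact this
  rw [e2, ← symm_nat_assoc, tm_comp_assoc, resComm_Q]
  have e3 := symm_fac R ((resCx ρ).obj ((resCx φ').obj T)) (S0 ρ)
  rw [reassoc_of% e3, Category.id_comp, ← Functor.map_comp]
  have e4 : tm (𝟙 (S0D ρ)) (rf₂ φ α T ≫ Q.map (cIso h T).hom) =
      tm (𝟙 (S0D ρ)) (rf₂ φ α T) ≫ tm (𝟙 (S0D ρ)) (Q.map (cIso h T).hom) := by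
    rw [tm_comp, Category.comp_id]
  rw [e4, Category.assoc]
  have e5 := ε_nat_right (S0 ρ) (cIso h T).hom
  have e6 := congrArg (fun t => t ≫ Q.map ((braidCx (S0 ρ) ((resCx ρ).obj ((resCx φ').obj T))).hom ≫
    act ρ ((resCx φ').obj T) ≫ (cIso h T).inv)) e5
  simp only [Category.assoc] at e6
  refine (congrArg (fun t => tm (𝟙 (S0D ρ)) (rf₂ φ α T) ≫ t) e6).trans ?_
  rw [← Functor.map_comp]
  rfl

variable [HasLTen₃ R] [IsSymMonoidal R]

/-- The actions of `R'` and of `A` commute, in `D(R)`. -/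
lemma key (T : Dual.D A') :
    tm (betaD h T) (𝟙 (S0D φ)) ≫ ac φ ((DRing.restrictD α).obj T) =
      (associator (S0D ρ) ((DRing.restrictD φ).obj ((DRing.restrictD α).obj T)) (S0D φ)).hom ≫
        tm (𝟙 (S0D ρ)) (ac φ ((DRing.restrictD α).obj T)) ≫ betaD h T := by
  obtain ⟨P, hP, ⟨e⟩⟩ := LTen.exists_kproj T
  suffices hs : tm (betaD h (Q.obj P)) (𝟙 (S0D φ)) ≫ ac φ ((DRing.restrictD α).obj (Q.obj P)) =
      (associator (S0D ρ) ((DRing.restrictD φ).obj ((DRing.restrictD α).obj (Q.obj P)))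
        (S0D φ)).hom ≫ tm (𝟙 (S0D ρ)) (ac φ ((DRing.restrictD α).obj (Q.obj P))) ≫
          betaD h (Q.obj P) by
    let r := (DRing.restrictD φ).map ((DRing.restrictD α).map e.hom)
    have hr : IsIso r := inferInstance
    have e1 := betaD_nat h e.hom
    have e2 := ac_nat φ ((DRing.restrictD α).map e.hom)
    have hepi : IsIso (tm (tm (𝟙 (S0D ρ)) r) (𝟙 (S0D φ))) := inferInstance
    rw [← cancel_epi (tm (tm (𝟙 (S0D ρ)) r) (𝟙 (S0D φ)))]
    have l1 : tm (tm (𝟙 (S0D ρ)) r) (𝟙 (S0D φ)) ≫ tm (betaD h T) (𝟙 (S0D φ)) ≫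
        ac φ ((DRing.restrictD α).obj T) = (tm (betaD h (Q.obj P)) (𝟙 (S0D φ)) ≫
          ac φ ((DRing.restrictD α).obj (Q.obj P))) ≫ r := by
      rw [tm_comp_assoc, e1, ← tm_comp_assoc (betaD h (Q.obj P)) r (𝟙 (S0D φ)) (𝟙 (S0D φ)), e2,
        Category.assoc]
    have l2 : tm (tm (𝟙 (S0D ρ)) r) (𝟙 (S0D φ)) ≫
      (associator (S0D ρ) ((DRing.restrictD φ).obj ((DRing.restrictD α).obj T)) (S0D φ)).hom ≫
        tm (𝟙 (S0D ρ)) (ac φ ((DRing.restrictD α).obj T)) ≫ betaD h T =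
      ((associator (S0D ρ) ((DRing.restrictD φ).obj ((DRing.restrictD α).obj (Q.obj P)))
        (S0D φ)).hom ≫ tm (𝟙 (S0D ρ)) (ac φ ((DRing.restrictD α).obj (Q.obj P))) ≫
          betaD h (Q.obj P)) ≫ r := by
      rw [assoc_nat_assoc, tm_comp_assoc, e2, ← tm_comp_assoc (𝟙 (S0D ρ)) (𝟙 (S0D ρ))
        (ac φ ((DRing.restrictD α).obj (Q.obj P))) r, e1, Category.assoc, Category.assoc]
    rw [l1, l2, hs]
  have hF := isIso_rf₂ (φ := φ) (α := α) P
  rw [← cancel_mono (rf₂ φ α P)]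
  simp only [Category.assoc]
  rw [ac_rf₂, betaD_Q, tm_comp_assoc, betaD_Q, tm_comp_assoc, ac_rf₂]
  have l1 : tm (tm (𝟙 (S0D ρ)) (rf₂ φ α P) ≫
      (ε R).app (S0 ρ, (resCx φ).obj ((resCx α).obj P)) ≫ Q.map (beta h P))
        (𝟙 (S0D φ) ≫ 𝟙 (S0D φ)) = tm (tm (𝟙 (S0D ρ)) (rf₂ φ α P)) (𝟙 (S0D φ)) ≫
      tm ((ε R).app (S0 ρ, (resCx φ).obj ((resCx α).obj P))) (𝟙 (S0D φ)) ≫
        tm (Q.map (beta h P)) (𝟙 (S0D φ)) := by
    simp only [tm_comp, Category.id_comp]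
  have l2 : tm (𝟙 (S0D ρ) ≫ 𝟙 (S0D ρ)) (tm (rf₂ φ α P) (𝟙 (S0D φ)) ≫
      (ε R).app ((resCx φ).obj ((resCx α).obj P), S0 φ) ≫ Q.map (act φ ((resCx α).obj P))) =
      tm (𝟙 (S0D ρ)) (tm (rf₂ φ α P) (𝟙 (S0D φ))) ≫
        tm (𝟙 (S0D ρ)) ((ε R).app ((resCx φ).obj ((resCx α).obj P), S0 φ)) ≫
          tm (𝟙 (S0D ρ)) (Q.map (act φ ((resCx α).obj P))) := by
    simp only [tm_comp, Category.id_comp]
  have l3 := ε_nat_left (beta h P) (S0 φ)
  have l4 := ε_nat_right (S0 ρ) (act φ ((resCx α).obj P))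
  have l5 := associator_fac_assoc (S0 ρ) ((resCx φ).obj ((resCx α).obj P)) (S0 φ)
    (Q.map ((S0 ρ ◁ act φ ((resCx α).obj P)) ≫ beta h P))
  have l6 := congrArg (fun t => Q.map t) (act_comm h P)
  rw [l1, l2]
  simp only [Category.assoc]
  rw [← assoc_nat_assoc]
  refine congrArg (fun t => tm (tm (𝟙 (S0D ρ)) (rf₂ φ α P)) (𝟙 (S0D φ)) ≫ t) ?_
  refine (congrArg (fun t => tm ((ε R).app (S0 ρ, (resCx φ).obj ((resCx α).obj P)))
    (𝟙 (S0D φ)) ≫ t) ((reassoc_of% l3) _)).trans ?_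
  rw [← Functor.map_comp, l6, Functor.map_comp]
  refine l5.symm.trans ?_
  refine congrArg (fun t => (associator (S0D ρ) (Q.obj ((resCx φ).obj ((resCx α).obj P)))
        (S0D φ)).hom ≫ tm (𝟙 (S0D ρ)) ((ε R).app ((resCx φ).obj ((resCx α).obj P), S0 φ)) ≫ t) ?_
  rw [Functor.map_comp]
  exact ((reassoc_of% l4) _).symm

end Beta

section Cmp

variable [DRing.HasLBaseChange ρ] [DRing.HasLBaseChange α]
  (adjρ : DRing.LBaseChange ρ ⊣ DRing.restrictD ρ) (adjα : DRing.LBaseChange α ⊣ DRing.restrictD α)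

@[reassoc]
lemma unit_cmp (X : Dual.D A) : adjρ.unit.app ((DRing.restrictD φ).obj X) ≫
    (DRing.restrictD ρ).map (TrivBC.cmp adjρ adjα h X) =
      (DRing.restrictD φ).map (adjα.unit.app X) ≫
        (TrivBC.resComm h).hom.app ((DRing.LBaseChange α).obj X) := by
  have e := (adjρ.homEquiv _ _).apply_symm_apply ((DRing.restrictD φ).map (adjα.unit.app X) ≫
    (TrivBC.resComm h).hom.app ((DRing.LBaseChange α).obj X))
  rw [Adjunction.homEquiv_unit] at e
  exact e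

lemma cmp_comp {Z' : Dual.D A'} {M' : Dual.D R'} (e' : (DRing.restrictD φ').obj Z' ⟶ M')
    {Y : Dual.D A} (g : Y ⟶ (DRing.restrictD α).obj Z') :
    adjρ.homEquiv _ _ (TrivBC.cmp adjρ adjα h Y ≫
      (DRing.restrictD φ').map ((adjα.homEquiv Y Z').symm g) ≫ e') =
    (DRing.restrictD φ).map g ≫ (TrivBC.resComm h).hom.app Z' ≫ (DRing.restrictD ρ).map e' := by
  rw [Adjunction.homEquiv_unit, Functor.map_comp, Functor.map_comp, unit_cmp_assoc]
  have e1 := (TrivBC.resComm h).hom.naturality ((adjα.homEquiv Y Z').symm g)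
  have e2 := (adjα.homEquiv Y Z').apply_symm_apply g
  rw [Adjunction.homEquiv_unit] at e2
  have e3 : (DRing.restrictD φ).map g = (DRing.restrictD φ).map (adjα.unit.app Y) ≫
      (DRing.restrictD φ).map ((DRing.restrictD α).map ((adjα.homEquiv Y Z').symm g)) := by
    rw [← Functor.map_comp, e2]
  rw [e3, Category.assoc]
  refine congrArg (fun t => (DRing.restrictD φ).map (adjα.unit.app Y) ≫ t) ?_
  exact ((reassoc_of% e1) _).symm

include adjρ adjα in
/-- Universality over `A'` and over `A`. -/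
lemma isUniv_iff_isUniv (hcmp : ∀ Y : Dual.D A, IsIso (TrivBC.cmp adjρ adjα h Y))
    {Z' : Dual.D A'} {M' : Dual.D R'} (e' : (DRing.restrictD φ').obj Z' ⟶ M') :
    Univ.IsUniv φ' e' ↔
      Univ.IsUniv φ ((TrivBC.resComm h).hom.app Z' ≫ (DRing.restrictD ρ).map e') := by
  have key : ∀ Y : Dual.D A, Function.Bijective (fun g : Y ⟶ (DRing.restrictD α).obj Z' =>
      (DRing.restrictD φ).map g ≫ (TrivBC.resComm h).hom.app Z' ≫ (DRing.restrictD ρ).map e') ↔
      Function.Bijective (fun g : (DRing.LBaseChange α).obj Y ⟶ Z' =>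
        (DRing.restrictD φ').map g ≫ e') := by
    intro Y
    have := hcmp Y
    have h1 : (fun g : Y ⟶ (DRing.restrictD α).obj Z' =>
      (DRing.restrictD φ).map g ≫ (TrivBC.resComm h).hom.app Z' ≫ (DRing.restrictD ρ).map e') =
      (adjρ.homEquiv _ _) ∘ ((asIso (TrivBC.cmp adjρ adjα h Y)).homFromEquiv (Z := M')).symm ∘
        (fun g : (DRing.LBaseChange α).obj Y ⟶ Z' => (DRing.restrictD φ').map g ≫ e') ∘
          (adjα.homEquiv Y Z').symm := by
      funext g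
      exact (cmp_comp h adjρ adjα e' g).symm
    rw [h1]
    rw [Function.Bijective.of_comp_iff' (Equiv.bijective _),
      Function.Bijective.of_comp_iff' (Equiv.bijective _),
      Function.Bijective.of_comp_iff _ (Equiv.bijective _)]
  constructor
  · intro hu Y
    exact (key Y).2 (hu _)
  · intro hu
    refine Univ.IsUniv.of_sg fun n => ?_
    exact bijective_of_iso_left φ' (LBC.lbcSelfIso α n) e' ((key (DBase.sg A n A)).1 (hu _))

end Cmp

section Main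

variable [DRing.HasLBaseChange ρ] [DRing.HasLBaseChange α]
  (adjρ : DRing.LBaseChange ρ ⊣ DRing.restrictD ρ) (adjα : DRing.LBaseChange α ⊣ DRing.restrictD α)
  [HasLTen R] [HasLTen₃ R] [IsSymMonoidal R]

/-- `R' ⊗^L M ≅ (M ⊗^L_R R')|_R`. -/
noncomputable def qM (M : Dual.D R) : (LTen₂ R).obj (S0D ρ, M) ⟶
    (DRing.restrictD ρ).obj ((DRing.LBaseChange ρ).obj M) :=
  (DTen.symm R).app (M, S0D ρ) ≫ (free ρ adjρ).app M

instance isIso_qM (M : Dual.D R) : IsIso (qM adjρ M) := by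
  unfold qM
  infer_instance

@[reassoc]
lemma qM_nat {M M' : Dual.D R} (g : M ⟶ M') : tm (𝟙 (S0D ρ)) g ≫ qM adjρ M' =
    qM adjρ M ≫ (DRing.restrictD ρ).map ((DRing.LBaseChange ρ).map g) := by
  have e := (free ρ adjρ).naturality g
  rw [qM, qM, symm_nat_assoc, Category.assoc]
  exact congrArg (fun t => (DTen.symm R).app (M, S0D ρ) ≫ t) e

/-- `R' ⊗^L X|_R ⟶ (X ⊗^L_A A')|_A|_R`. -/
noncomputable def kap (X : Dual.D A) : (LTen₂ R).obj (S0D ρ, (DRing.restrictD φ).obj X) ⟶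
    (DRing.restrictD φ).obj ((DRing.restrictD α).obj ((DRing.LBaseChange α).obj X)) :=
  tm (𝟙 (S0D ρ)) ((DRing.restrictD φ).map (adjα.unit.app X)) ≫
    betaD h ((DRing.LBaseChange α).obj X)

lemma kap_eq (X : Dual.D A) : kap h adjα X =
    qM adjρ ((DRing.restrictD φ).obj X) ≫
      (DRing.restrictD ρ).map (TrivBC.cmp adjρ adjα h X) ≫
        (TrivBC.resComm h).inv.app ((DRing.LBaseChange α).obj X) := by
  rw [kap, betaD, tm_comp_assoc, ← unit_cmp h adjρ adjα X, qM, free_app]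
  simp only [Category.assoc]
  rw [← ac_nat_assoc, ← symm_nat_assoc, ← symm_nat_assoc, tm_comp_assoc]

include adjρ in
lemma isIso_kap (X : Dual.D A) (hc : IsIso (TrivBC.cmp adjρ adjα h X)) :
    IsIso (kap h adjα X) := by
  rw [kap_eq h adjρ adjα X]
  infer_instance

omit [DRing.HasLBaseChange ρ] [DRing.HasLBaseChange α] in
lemma kap_ac_aux {X : Dual.D A} {T : Dual.D A'} (v : X ⟶ (DRing.restrictD α).obj T) :
    tm (tm (𝟙 (S0D ρ)) ((DRing.restrictD φ).map v) ≫ betaD h T) (𝟙 (S0D φ)) ≫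
      ac φ ((DRing.restrictD α).obj T) =
      (associator (S0D ρ) ((DRing.restrictD φ).obj X) (S0D φ)).hom ≫
        tm (𝟙 (S0D ρ)) (ac φ X) ≫ tm (𝟙 (S0D ρ)) ((DRing.restrictD φ).map v) ≫ betaD h T := by
  have e1 : tm (tm (𝟙 (S0D ρ)) ((DRing.restrictD φ).map v) ≫ betaD h T) (𝟙 (S0D φ)) =
      tm (tm (𝟙 (S0D ρ)) ((DRing.restrictD φ).map v)) (𝟙 (S0D φ)) ≫
        tm (betaD h T) (𝟙 (S0D φ)) := by
    rw [tm_comp, Category.comp_id]
  rw [e1, Category.assoc, key, assoc_nat_assoc, tm_comp_assoc, ac_nat, ← tm_comp_assoc]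

/-- `kap` is compatible with the actions of `A`. -/
lemma kap_ac (X : Dual.D A) : tm (kap h adjα X) (𝟙 (S0D φ)) ≫
    ac φ ((DRing.restrictD α).obj ((DRing.LBaseChange α).obj X)) =
      (associator (S0D ρ) ((DRing.restrictD φ).obj X) (S0D φ)).hom ≫
        tm (𝟙 (S0D ρ)) (ac φ X) ≫ kap h adjα X :=
  kap_ac_aux h (adjα.unit.app X)

variable {Rφ : Dual.D R ⥤ Dual.D A} (adj : DRing.restrictD φ ⊣ Rφ)
  {Rφ' : Dual.D R' ⥤ Dual.D A'} (adj' : DRing.restrictD φ' ⊣ Rφ')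

/-- The map `(R' ⊗^L RHom(A, K)) ⊗^L A ⟶ R' ⊗^L K`. -/
noncomputable def vAux (K : Dual.D R) {X : Dual.D A} (c : (DRing.restrictD φ).obj X ⟶ K) :
    (LTen₂ R).obj ((LTen₂ R).obj (S0D ρ, (DRing.restrictD φ).obj X), S0D φ) ⟶
      (LTen₂ R).obj (S0D ρ, K) :=
  (associator (S0D ρ) ((DRing.restrictD φ).obj X) (S0D φ)).hom ≫ tm (𝟙 (S0D ρ)) (ac φ X ≫ c)

/-- The map `(X ⊗^L A')|_R ⟶ (K ⊗^L R')|_R`. -/
noncomputable def wAux {K : Dual.D R} {X : Dual.D A} (c : (DRing.restrictD φ).obj X ⟶ K)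
    (hc : IsIso (TrivBC.cmp adjρ adjα h X)) :
    (DRing.restrictD φ).obj ((DRing.restrictD α).obj ((DRing.LBaseChange α).obj X)) ⟶
      (DRing.restrictD ρ).obj ((DRing.LBaseChange ρ).obj K) :=
  (TrivBC.resComm h).hom.app ((DRing.LBaseChange α).obj X) ≫
    (DRing.restrictD ρ).map (inv (TrivBC.cmp adjρ adjα h X) ≫ (DRing.LBaseChange ρ).map c)

lemma kap_wAux {K : Dual.D R} {X : Dual.D A} (c : (DRing.restrictD φ).obj X ⟶ K)
    (hc : IsIso (TrivBC.cmp adjρ adjα h X)) :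
    kap h adjα X ≫ wAux h adjρ adjα c hc = tm (𝟙 (S0D ρ)) c ≫ qM adjρ K := by
  have e1 : (TrivBC.resComm h).inv.app ((DRing.LBaseChange α).obj X) ≫
      (TrivBC.resComm h).hom.app ((DRing.LBaseChange α).obj X) = 𝟙 _ := Iso.inv_hom_id_app _ _
  rw [kap_eq h adjρ adjα X, wAux, qM_nat, Category.assoc, Category.assoc]
  refine (congrArg (fun t => qM adjρ ((DRing.restrictD φ).obj X) ≫
      (DRing.restrictD ρ).map (TrivBC.cmp adjρ adjα h X) ≫ t) ((reassoc_of% e1) _)).trans ?_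
  rw [← Functor.map_comp, IsIso.hom_inv_id_assoc]

lemma isUnivT_vAux_iff {K : Dual.D R} {X : Dual.D A} (c : (DRing.restrictD φ).obj X ⟶ K)
    (hc : IsIso (TrivBC.cmp adjρ adjα h X)) :
    IsUnivT (vAux (ρ := ρ) K c) ↔ Univ.IsUniv φ (wAux h adjρ adjα c hc) := by
  have hk := isIso_kap h adjρ adjα X hc
  have e : vAux (ρ := ρ) K c ≫ qM adjρ K = tm (kap h adjα X) (𝟙 (S0D φ)) ≫
      ac φ ((DRing.restrictD α).obj ((DRing.LBaseChange α).obj X)) ≫ wAux h adjρ adjα c hc := by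
    have e1 := kap_ac h adjα X
    rw [reassoc_of% e1, kap_wAux, vAux, Category.assoc, tm_comp_assoc, Category.comp_id]
  have i1 := isUnivT_comp_iso_iff (v := vAux (ρ := ρ) K c) (asIso (qM adjρ K))
  have i2 := isUnivT_of_iso_iff (v := ac φ ((DRing.restrictD α).obj ((DRing.LBaseChange α).obj X)) ≫
    wAux h adjρ adjα c hc) (asIso (kap h adjα X))
  rw [← i1, asIso_hom, e, isUniv_iff]
  exact i2

variable [HasRHom R]

omit [DRing.HasLBaseChange ρ] in
lemma isIso_evalTen_iff (K : Dual.D R) {X : Dual.D A} (c : (DRing.restrictD φ).obj X ⟶ K)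
    (hc : Univ.IsUniv φ c) :
    IsIso (evalTen (S0D ρ) K (S0D φ)) ↔ IsUnivT (vAux (ρ := ρ) K c) := by
  obtain ⟨i, hi⟩ := ((isUniv_iff φ c).1 hc).exists_iso (isUnivT_ev (S0D φ) K)
  have e : evalTenAux (S0D ρ) K (S0D φ) =
      tm (tm (𝟙 (S0D ρ)) i.hom) (𝟙 (S0D φ)) ≫ vAux (ρ := ρ) K c := by
    rw [vAux, assoc_nat_assoc, tm_comp, hi, Category.comp_id]
    rfl
  rw [evalTen, ← isUnivT_iff, e]
  exact isUnivT_of_iso_iff (asIso (tm (𝟙 (S0D ρ)) i.hom))

include adjα in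
/-- The main statement, for an arbitrary universal arrow `c`. -/
lemma univ_iff_isIso_evalTen (K : Dual.D R) {X : Dual.D A} (c : (DRing.restrictD φ).obj X ⟶ K)
    (hcu : Univ.IsUniv φ c) (hc : IsIso (TrivBC.cmp adjρ adjα h X))
    (hcmp : ∀ Y : Dual.D A, IsIso (TrivBC.cmp adjρ adjα h Y)) :
    Univ.IsUniv φ' (inv (TrivBC.cmp adjρ adjα h X) ≫ (DRing.LBaseChange ρ).map c) ↔
      IsIso (evalTen (S0D ρ) K (S0D φ)) := by
  refine (isUniv_iff_isUniv h adjρ adjα hcmp _).trans ?_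
  refine Iff.trans ?_ (isIso_evalTen_iff K c hcu).symm
  exact (isUnivT_vAux_iff h adjρ adjα c hc).symm

/-- **Main theorem.** -/
theorem main (K : Dual.D R) (hc : IsIso (TrivBC.cmp adjρ adjα h (Rφ.obj K)))
    (hcmp : ∀ Y : Dual.D A, IsIso (TrivBC.cmp adjρ adjα h Y)) :
    IsIso (TrivBC.bcMap adjρ adjα h adj adj' K hc) ↔
      IsIso (evalTen ((DRing.restrictD ρ).obj (unit R')) K ((DRing.restrictD φ).obj (unit A))) := by
  have h1 : IsIso (evalTen ((DRing.restrictD ρ).obj (unit R')) K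
      ((DRing.restrictD φ).obj (unit A))) ↔ IsIso (evalTen (S0D ρ) K (S0D φ)) :=
    ⟨fun hi => isIso_evalTen_of_iso ((resFactors ρ).app _) (Iso.refl K) ((resFactors φ).app _) hi,
      fun hi => isIso_evalTen_of_iso ((resFactors ρ).app _).symm (Iso.refl K)
        ((resFactors φ).app _).symm hi⟩
  refine Iff.trans ?_ h1.symm
  refine Iff.trans ?_ (univ_iff_isIso_evalTen h adjρ adjα K (adj.counit.app K)
    (Univ.isUniv_counit adj K) hc hcmp)
  exact (Univ.isUniv_iff_isIso adj' _).symm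

end Main

end Square

end K367.TrivAct
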